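/-
A strongly regular graph with parameters (100, 22, 0, 6) is the point-block graph of S(3,6,22).
-/
import Cfsg.Agent.Lib.GolayUnique.Model
import Cfsg.Prelude.Def_Sporadic_a

set_option autoImplicit false
set_option linter.style.haveILetI false
set_option linter.unusedSectionVars false

namespace CfsgSRGUnique

open Finset SimpleGraph

variable {V : Type*} [Fintype V] [DecidableEq V] {G : SimpleGraph V} [DecidableRel G.Adj]
  (hG : G.IsSRGWith 100 22 0 6) (o : V)

/-- The neighbours of the base vertex. -/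
def pts (G : SimpleGraph V) [DecidableRel G.Adj] (o : V) : Finset V := G.neighborFinset o

/-- The remaining vertices. -/
def far (G : SimpleGraph V) [DecidableRel G.Adj] (o : V) : Finset V :=
  univ.filter fun y => y ≠ o ∧ ¬ G.Adj o y

/-- The trace of a remaining vertex on the neighbours of the base vertex. -/
def blk (G : SimpleGraph V) [DecidableRel G.Adj] (o y : V) : Finset V := (pts G o).filter (G.Adj y)

/-- The remaining neighbours of a vertex. -/
def farNbr (G : SimpleGraph V) [DecidableRel G.Adj] (o x : V) : Finset V := (far G o).filter (G.Adj x)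

theorem mem_pts {x : V} : x ∈ pts G o ↔ G.Adj o x := mem_neighborFinset _ _ _
theorem mem_far {y : V} : y ∈ far G o ↔ y ≠ o ∧ ¬ G.Adj o y := by simp [far]
theorem mem_blk {x y : V} : x ∈ blk G o y ↔ G.Adj o x ∧ G.Adj y x := by simp [blk, mem_pts]
theorem mem_farNbr {x y : V} : y ∈ farNbr G o x ↔ (y ≠ o ∧ ¬ G.Adj o y) ∧ G.Adj x y := by simp [farNbr, mem_far]

include hG

theorem no_triangle {u v w : V} (huv : G.Adj u v) (huw : G.Adj u w) (hvw : G.Adj v w) : False := by
  have h := hG.of_adj u v huv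
  rw [Fintype.card_eq_zero_iff] at h
  exact h.false ⟨w, huw, hvw⟩

theorem common_card {u v : V} (hne : u ≠ v) (h : ¬ G.Adj u v) :
    (univ.filter fun w => G.Adj u w ∧ G.Adj v w).card = 6 := by
  rw [← hG.of_not_adj hne h, ← Fintype.card_subtype]
  exact Fintype.card_congr (Equiv.subtypeEquivRight fun w => by simp [mem_commonNeighbors])

theorem card_pts : (pts G o).card = 22 := by
  rw [pts, card_neighborFinset_eq_degree]; exact hG.regular o

theorem card_far : (far G o).card = 77 := by
  have h : far G o = univ \ insert o (pts G o) := by ext y; simp [mem_far, mem_pts]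
  rw [h, card_univ_diff, card_insert_of_notMem (by simp [mem_pts]), card_pts hG, hG.card]

theorem card_blk {y : V} (hy : y ∈ far G o) : (blk G o y).card = 6 := by
  rw [mem_far] at hy
  rw [← common_card hG hy.1.symm hy.2]
  congr 1; ext x; simp [mem_blk]

theorem card_farNbr {x : V} (hx : x ∈ pts G o) : (farNbr G o x).card = 21 := by
  rw [mem_pts] at hx
  have h : G.neighborFinset x = insert o (farNbr G o x) := by
    ext y
    simp only [mem_neighborFinset, mem_insert, mem_farNbr]
    refine ⟨fun h => ?_, ?_⟩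
    · by_cases e : y = o
      · exact Or.inl e
      · exact Or.inr ⟨⟨e, fun h' => no_triangle hG hx h' h⟩, h⟩
    · rintro (rfl | ⟨-, h⟩)
      · exact hx.symm
      · exact h
  have h2 : (G.neighborFinset x).card = 22 := by
    rw [card_neighborFinset_eq_degree]; exact hG.regular x
  rw [h, card_insert_of_notMem (by simp [mem_farNbr])] at h2
  omega

theorem card_farNbr_two {x x' : V} (hx : x ∈ pts G o) (hx' : x' ∈ pts G o) (hne : x ≠ x') :
    (farNbr G o x ∩ farNbr G o x').card = 5 := by
  rw [mem_pts] at hx hx'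
  have h : (univ.filter fun w => G.Adj x w ∧ G.Adj x' w) = insert o (farNbr G o x ∩ farNbr G o x') := by
    ext y
    simp only [mem_filter, mem_univ, true_and, mem_insert, mem_inter, mem_farNbr]
    refine ⟨fun h => ?_, ?_⟩
    · by_cases e : y = o
      · exact Or.inl e
      · exact Or.inr ⟨⟨⟨e, fun h' => no_triangle hG hx h' h.1⟩, h.1⟩, ⟨e, fun h' => no_triangle hG hx h' h.1⟩, h.2⟩
    · rintro (rfl | ⟨⟨-, h⟩, -, h'⟩)
      · exact ⟨hx.symm, hx'.symm⟩
      · exact ⟨h, h'⟩
  have h2 := common_card hG hne (no_triangle hG hx hx')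
  rw [h, card_insert_of_notMem (by simp [mem_farNbr])] at h2
  omega

theorem disjoint_of_adj {y z : V} (h : G.Adj y z) : Disjoint (blk G o y) (blk G o z) :=
  disjoint_left.mpr fun x h1 h2 => no_triangle hG h (mem_blk o |>.mp h1).2 (mem_blk o |>.mp h2).2

theorem inter_two {y z : V} (hy : y ∈ far G o) (hz : z ∈ far G o) (hne : z ≠ y) (hna : ¬ G.Adj y z) :
    (blk G o y ∩ blk G o z).card = 2 := by
  classical
  set f : V → ℤ := fun w => ((blk G o y ∩ blk G o w).card : ℤ) with hf
  have hf' : ∀ w, f w = ∑ x ∈ blk G o y, if G.Adj w x then (1 : ℤ) else 0 := fun w => by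
    rw [sum_boole]
    refine congrArg Nat.cast (congrArg Finset.card ?_)
    ext x
    simp only [mem_inter, mem_filter, mem_blk]
    tauto
  have hsub : blk G o y ⊆ pts G o := filter_subset _ _
  have e1 : ∑ w ∈ far G o, f w = 126 := by
    rw [sum_congr rfl fun w _ => hf' w, sum_comm,
      sum_congr rfl fun x hx => show (∑ w ∈ far G o, if G.Adj w x then (1 : ℤ) else 0) = 21 by
        rw [sum_boole, ← Nat.cast_ofNat, Nat.cast_inj, ← card_farNbr hG o (hsub hx)]
        exact congrArg Finset.card (by ext w; simp [mem_farNbr, mem_far, G.adj_comm])]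
    rw [sum_const, card_blk hG o hy]; norm_num
  have e2 : ∑ w ∈ far G o, f w ^ 2 = 276 := by
    rw [sum_congr rfl fun w _ => show f w ^ 2 = ∑ x ∈ blk G o y, ∑ x' ∈ blk G o y,
        if G.Adj w x ∧ G.Adj w x' then (1 : ℤ) else 0 by
      rw [hf', sq, sum_mul_sum]
      refine sum_congr rfl fun x _ => sum_congr rfl fun x' _ => ?_
      split_ifs <;> simp_all]
    rw [sum_comm, sum_congr rfl fun x hx => show (∑ w ∈ far G o, ∑ x' ∈ blk G o y,
        if G.Adj w x ∧ G.Adj w x' then (1 : ℤ) else 0) = 46 by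
      rw [sum_comm, sum_congr rfl fun x' hx' => show (∑ w ∈ far G o,
          if G.Adj w x ∧ G.Adj w x' then (1 : ℤ) else 0) = if x = x' then 21 else 5 by
        rw [sum_boole]
        split_ifs with e
        · subst e
          rw [← Nat.cast_ofNat, Nat.cast_inj, ← card_farNbr hG o (hsub hx)]
          exact congrArg Finset.card (by ext w; simp [mem_farNbr, mem_far, G.adj_comm])
        · rw [← Nat.cast_ofNat, Nat.cast_inj, ← card_farNbr_two hG o (hsub hx) (hsub hx') e]
          exact congrArg Finset.card (by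
            ext w; simp only [mem_filter, mem_inter, mem_farNbr, mem_far, G.adj_comm w]; tauto)]
      rw [← add_sum_erase _ _ hx, if_pos rfl,
        sum_congr rfl fun x' hx' => if_neg (ne_of_mem_erase hx').symm, sum_const, card_erase_of_mem hx,
        card_blk hG o hy]
      norm_num]
    rw [sum_const, card_blk hG o hy]; norm_num
  set R := (far G o).erase y with hR
  have hfy : f y = 6 := by rw [hf]; simp [card_blk hG o hy]
  have r1 : ∑ w ∈ R, f w = 120 := by
    have := add_sum_erase (far G o) f hy; rw [e1, hfy] at this; linarith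
  have r2 : ∑ w ∈ R, f w ^ 2 = 240 := by
    have := add_sum_erase (far G o) (fun w => f w ^ 2) hy
    beta_reduce at this
    rw [e2, hfy] at this; linarith
  have hcard : (R.filter fun w => ¬ G.Adj y w).card = 60 := by
    have h1 := card_filter_add_card_filter_not (s := R) (G.Adj y)
    have h2 : R.card = 76 := by rw [hR, card_erase_of_mem hy, card_far hG]
    have h3 : R.filter (G.Adj y) = G.neighborFinset y \ blk G o y := by
      rw [mem_far] at hy
      ext w
      simp only [hR, mem_filter, mem_erase, mem_far, mem_sdiff, mem_neighborFinset, mem_blk]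
      refine ⟨fun h => ⟨h.2, fun h' => h.1.2.2 h'.1⟩, fun h => ⟨⟨fun e => G.irrefl (e ▸ h.1), ?_, ?_⟩, h.1⟩⟩
      · rintro rfl; exact hy.2 h.1.symm
      · exact fun h' => h.2 ⟨h', h.1⟩
    have h4 : blk G o y ⊆ G.neighborFinset y := fun x hx =>
      (mem_neighborFinset _ _ _).mpr ((mem_blk o).mp hx).2
    rw [h3, card_sdiff_of_subset h4, card_neighborFinset_eq_degree, hG.regular y, card_blk hG o hy] at h1
    omega
  have h0 : ∀ w ∈ R, G.Adj y w → f w = 0 := fun w _ h => by
    simp [hf, disjoint_iff_inter_eq_empty.mp (disjoint_of_adj hG o h)]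
  have s1 := sum_filter_add_sum_filter_not R (G.Adj y) f
  have s2 := sum_filter_add_sum_filter_not R (G.Adj y) (fun w => f w ^ 2)
  rw [r1, sum_eq_zero (fun w hw => h0 w (mem_filter.mp hw).1 (mem_filter.mp hw).2), zero_add] at s1
  rw [r2, sum_eq_zero (fun w hw => by
    rw [h0 w (mem_filter.mp hw).1 (mem_filter.mp hw).2]; norm_num), zero_add] at s2
  have h5 : ∑ w ∈ R.filter (fun w => ¬ G.Adj y w), (f w - 2) ^ 2 = 0 := by
    simp only [sub_sq, sum_add_distrib, sum_sub_distrib, sum_const, nsmul_eq_mul, hcard]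
    rw [show ∑ w ∈ R.filter (fun w => ¬ G.Adj y w), 2 * f w * 2 = 4 * 120 by
      rw [← s1, mul_sum]; exact sum_congr rfl fun w _ => by ring, s2]
    norm_num
  have h6 := (sum_eq_zero_iff_of_nonneg fun w _ => sq_nonneg _).mp h5 z
    (by simp [hR, hne, hz, hna])
  have h7 : f z = 2 := by nlinarith only [h6]
  simp only [hf] at h7
  exact_mod_cast h7

theorem blk_inj {y z : V} (hy : y ∈ far G o) (hz : z ∈ far G o) (h : blk G o y = blk G o z) : y = z := by
  by_contra hne
  have hc := card_blk hG o hy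
  by_cases ha : G.Adj y z
  · have := disjoint_of_adj hG o ha
    rw [← h, disjoint_self_iff_empty] at this
    simp [this] at hc
  · have := inter_two hG o hy hz (Ne.symm hne) ha
    rw [← h, inter_self, hc] at this
    omega

theorem adj_iff_disjoint {y z : V} (hy : y ∈ far G o) (hz : z ∈ far G o) (hne : y ≠ z) :
    G.Adj y z ↔ Disjoint (blk G o y) (blk G o z) := by
  refine ⟨disjoint_of_adj hG o, fun h => ?_⟩
  by_contra ha
  have := inter_two hG o hy hz hne.symm ha
  simp [disjoint_iff_inter_eq_empty.mp h] at this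

theorem three_le {y z : V} (hy : y ∈ far G o) (hz : z ∈ far G o) {s : Finset V} (hs : s.card = 3)
    (hy' : s ⊆ blk G o y) (hz' : s ⊆ blk G o z) : y = z := by
  by_contra hne
  have h3 : 3 ≤ (blk G o y ∩ blk G o z).card := hs ▸ card_le_card (subset_inter hy' hz')
  by_cases ha : G.Adj y z
  · simp [disjoint_iff_inter_eq_empty.mp (disjoint_of_adj hG o ha)] at h3
  · have := inter_two hG o hy hz (Ne.symm hne) ha
    omega

theorem exists_three {a b c : V} (ha : a ∈ pts G o) (hb : b ∈ pts G o) (hc : c ∈ pts G o)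
    (hab : a ≠ b) (hac : a ≠ c) (hbc : b ≠ c) :
    ∃ y ∈ far G o, a ∈ blk G o y ∧ b ∈ blk G o y ∧ c ∈ blk G o y := by
  classical
  set S := farNbr G o a ∩ farNbr G o b with hS
  have hSm : ∀ y ∈ S, y ∈ far G o ∧ a ∈ blk G o y ∧ b ∈ blk G o y := fun y hy => by
    simp only [hS, mem_inter, mem_farNbr] at hy
    exact ⟨(mem_far o).mpr hy.1.1, (mem_blk o).mpr ⟨(mem_pts o).mp ha, hy.1.2.symm⟩,
      (mem_blk o).mpr ⟨(mem_pts o).mp hb, hy.2.2.symm⟩⟩
  have hdis : (S : Set V).PairwiseDisjoint fun y => blk G o y \ {a, b} := by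
    intro y hy z hz hne
    simp only [mem_coe] at hy hz
    refine disjoint_left.mpr fun x hx hx' => hne ?_
    simp only [mem_sdiff, mem_insert, mem_singleton, not_or] at hx hx'
    refine three_le hG o (hSm y hy).1 (hSm z hz).1 (s := {a, b, x})
      (by rw [card_insert_of_notMem (by simp [hab, Ne.symm hx.2.1]), card_pair (Ne.symm hx.2.2)]) ?_ ?_ <;>
      simp [insert_subset_iff, (hSm y hy).2.1, (hSm y hy).2.2, hx.1, (hSm z hz).2.1, (hSm z hz).2.2, hx'.1]
  have hsub : S.biUnion (fun y => blk G o y \ {a, b}) ⊆ pts G o \ {a, b} := by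
    intro x hx
    obtain ⟨y, -, hx⟩ := mem_biUnion.mp hx
    simp only [mem_sdiff] at hx ⊢
    exact ⟨(mem_filter.mp hx.1).1, hx.2⟩
  have hcard : (S.biUnion fun y => blk G o y \ {a, b}).card = 20 := by
    rw [card_biUnion hdis, sum_congr rfl fun y hy => show (blk G o y \ {a, b}).card = 4 by
      rw [card_sdiff_of_subset (by simp [insert_subset_iff, (hSm y hy).2.1, (hSm y hy).2.2]),
        card_blk hG o (hSm y hy).1, card_pair hab]]
    rw [sum_const, hS, card_farNbr_two hG o ha hb hab]; rfl
  have heq : S.biUnion (fun y => blk G o y \ {a, b}) = pts G o \ {a, b} := by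
    refine eq_of_subset_of_card_le hsub ?_
    rw [hcard, card_sdiff_of_subset (by simp [insert_subset_iff, ha, hb]), card_pts hG, card_pair hab]
  have hc' : c ∈ pts G o \ {a, b} := by simp [hc, Ne.symm hac, Ne.symm hbc]
  rw [← heq] at hc'
  obtain ⟨y, hy, hcy⟩ := mem_biUnion.mp hc'
  exact ⟨y, (hSm y hy).1, (hSm y hy).2.1, (hSm y hy).2.2, (mem_sdiff.mp hcy).1⟩

/-- The graph is the point-block graph of a Steiner system. -/
theorem exists_model : ∃ (α : Finset V) (B : Set (Finset ↥α)), Fintype.card ↥α = 22 ∧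
    Cfsg.IsSteinerSystem 3 6 B ∧ Nonempty (Cfsg.pointBlockGraph B ≃g G) := by
  classical
  obtain ⟨o⟩ : Nonempty V := Fintype.card_pos_iff.mp (by rw [hG.card]; norm_num)
  let bl : V → Finset ↥(pts G o) := fun y => univ.filter fun x => G.Adj y x
  have hbl : ∀ y, (bl y).map (Function.Embedding.subtype _) = blk G o y := fun y => by
    ext x; simp [bl, mem_blk, mem_pts, and_comm]
  have hblinj : ∀ y ∈ far G o, ∀ z ∈ far G o, bl y = bl z → y = z := fun y hy z hz h =>
    blk_inj hG o hy hz (by rw [← hbl, h, hbl])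
  refine ⟨pts G o, bl '' (far G o : Set V), by rw [Fintype.card_coe, card_pts hG], ⟨?_, ?_⟩, ?_⟩
  · rintro - ⟨y, hy, rfl⟩
    rw [← card_map, hbl, card_blk hG o hy]
  · intro s hs
    obtain ⟨a, b, c, hab, hac, hbc, rfl⟩ := card_eq_three.mp hs
    obtain ⟨y, hy, h1, h2, h3⟩ := exists_three hG o a.2 b.2 c.2
      (fun e => hab (Subtype.ext e)) (fun e => hac (Subtype.ext e)) (fun e => hbc (Subtype.ext e))
    rw [mem_blk] at h1 h2 h3
    refine ⟨bl y, ⟨⟨y, hy, rfl⟩, by simp [bl, insert_subset_iff, h1.2, h2.2, h3.2]⟩, ?_⟩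
    rintro - ⟨⟨z, hz, rfl⟩, hz'⟩
    refine congrArg bl (three_le hG o hz hy (s := ({a, b, c} : Finset _).map (Function.Embedding.subtype _))
      (by rw [card_map, hs]) ?_ ?_)
    · rw [← hbl]; exact map_subset_map.mpr hz'
    · rw [← hbl]; exact map_subset_map.mpr (by simp [bl, insert_subset_iff, h1.2, h2.2, h3.2])
  · let ψ : Option (↥(pts G o) ⊕ ↥(bl '' (far G o : Set V))) → V := fun v =>
      match v with
      | none => o
      | some (Sum.inl x) => x.1
      | some (Sum.inr b) => b.2.choose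
    have hch : ∀ b : ↥(bl '' (far G o : Set V)), b.2.choose ∈ far G o ∧ bl b.2.choose = b.1 :=
      fun b => b.2.choose_spec
    have hinj : Function.Injective ψ := by
      rintro (_ | x | b) (_ | x' | b') h
      · rfl
      · exact absurd h.symm ((mem_pts o).mp x'.2).ne'
      · exact absurd h.symm ((mem_far o).mp (hch b').1).1
      · exact absurd h ((mem_pts o).mp x.2).ne'
      · exact congrArg (fun t => some (Sum.inl t)) (Subtype.ext h)
      · exact absurd ((mem_pts o).mp (show b'.2.choose ∈ pts G o from (show x.1 = b'.2.choose from h) ▸ x.2)) ((mem_far o).mp (hch b').1).2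
      · exact absurd h ((mem_far o).mp (hch b).1).1
      · exact absurd ((mem_pts o).mp (show b.2.choose ∈ pts G o from (show x'.1 = b.2.choose from h.symm) ▸ x'.2)) ((mem_far o).mp (hch b).1).2
      · exact congrArg (fun t => some (Sum.inr t))
          (Subtype.ext (by rw [← (hch b).2, ← (hch b').2]; exact congrArg bl h))
    have hsurj : Function.Surjective ψ := by
      intro v
      by_cases h : v = o
      · exact ⟨none, h.symm⟩
      by_cases h' : G.Adj o v
      · exact ⟨some (Sum.inl ⟨v, (mem_pts o).mpr h'⟩), rfl⟩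
      have hv : v ∈ far G o := (mem_far o).mpr ⟨h, h'⟩
      refine ⟨some (Sum.inr ⟨bl v, v, hv, rfl⟩), ?_⟩
      exact hblinj _ (hch _).1 _ hv (hch ⟨bl v, v, hv, rfl⟩).2
    refine ⟨⟨Equiv.ofBijective ψ ⟨hinj, hsurj⟩, ?_⟩⟩
    intro v w
    simp only [Equiv.ofBijective_apply, Cfsg.pointBlockGraph, fromRel_adj]
    have hxx : ∀ x x' : ↥(pts G o), ¬ G.Adj x x' := fun x x' h =>
      no_triangle hG ((mem_pts o).mp x.2) ((mem_pts o).mp x'.2) h
    have hox : ∀ x : ↥(pts G o), G.Adj o x := fun x => (mem_pts o).mp x.2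
    have hob : ∀ b : ↥(bl '' (far G o : Set V)), ¬ G.Adj o b.2.choose :=
      fun b => ((mem_far o).mp (hch b).1).2
    have hxb : ∀ (x : ↥(pts G o)) (b : ↥(bl '' (far G o : Set V))), G.Adj b.2.choose x ↔ x ∈ b.1 :=
      fun x b => by conv_rhs => rw [← (hch b).2]
                    simp [bl]
    rcases v with (_ | x | b) <;> rcases w with (_ | x' | b')
    · simp [ψ]
    · simpa [ψ, Cfsg.pointBlockRel] using hox x'
    · simpa [ψ, Cfsg.pointBlockRel] using hob b'
    · simpa [ψ, Cfsg.pointBlockRel] using (hox x).symm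
    · simpa [ψ, Cfsg.pointBlockRel] using hxx x x'
    · simpa [ψ, Cfsg.pointBlockRel, G.adj_comm] using hxb x b'
    · simpa [ψ, Cfsg.pointBlockRel, G.adj_comm] using hob b
    · simpa [ψ, Cfsg.pointBlockRel] using hxb x' b
    · show G.Adj b.2.choose b'.2.choose ↔ _
      by_cases e : b = b'
      · subst e; simp
      have hne : b.2.choose ≠ b'.2.choose := fun h => e (Subtype.ext (by
        rw [← (hch b).2, ← (hch b').2, h]))
      rw [adj_iff_disjoint hG o (hch b).1 (hch b').1 hne, ← hbl, ← hbl, disjoint_map, (hch b).2, (hch b').2]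
      simp [Cfsg.pointBlockRel, e, disjoint_comm]

omit hG

/-- Isomorphic families give isomorphic point-block graphs. -/
theorem pointBlock_congr {α β : Type*} [DecidableEq β] {B : Set (Finset α)} {B' : Set (Finset β)}
    (h : Cfsg.SetSystemIso B B') : Nonempty (Cfsg.pointBlockGraph B ≃g Cfsg.pointBlockGraph B') := by
  classical
  obtain ⟨e, he⟩ := h
  let q : ↥B ≃ ↥B' := Equiv.ofBijective (fun b => ⟨b.1.image e, he ▸ ⟨b.1, b.2, rfl⟩⟩) ⟨fun b c h =>
    Subtype.ext (Finset.image_injective e.injective (congrArg Subtype.val h)), fun c => by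
      obtain ⟨b, hb, hbe⟩ : c.1 ∈ (fun b => b.image e) '' B := he ▸ c.2
      exact ⟨⟨b, hb⟩, Subtype.ext hbe⟩⟩
  refine ⟨⟨(e.sumCongr q).optionCongr, ?_⟩⟩
  have hr : ∀ v w, Cfsg.pointBlockRel B' ((e.sumCongr q).optionCongr v) ((e.sumCongr q).optionCongr w) ↔
      Cfsg.pointBlockRel B v w := by
    rintro (_ | x | b) (_ | x' | b') <;>
      simp [Cfsg.pointBlockRel, q, Equiv.ofBijective, Finset.disjoint_image e.injective]
  intro v w
  simp only [Cfsg.pointBlockGraph, SimpleGraph.fromRel_adj, hr, ne_eq, EmbeddingLike.apply_eq_iff_eq]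

/-- Strongly regular graphs with parameters (100, 22, 0, 6) are isomorphic. -/
theorem unique_hundred {V W : Type*} [Fintype V] [Fintype W] {G : SimpleGraph V} {H : SimpleGraph W}
    [DecidableRel G.Adj] [DecidableRel H.Adj] (hG : G.IsSRGWith 100 22 0 6)
    (hH : H.IsSRGWith 100 22 0 6) : Nonempty (G ≃g H) := by
  classical
  obtain ⟨α, B, hα, hB, ⟨φ⟩⟩ := exists_model hG
  obtain ⟨β, B', hβ, hB', ⟨φ'⟩⟩ := exists_model hH
  obtain ⟨χ⟩ := pointBlock_congr (CfsgCode.iso_22 hα hβ hB hB')
  exact ⟨(φ.symm.trans χ).trans φ'⟩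

end CfsgSRGUnique
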