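/-
Fifteen vectors with inner products 4, 1, -2 spanning five dimensions are the pairs out of six.
-/
import Mathlib

set_option autoImplicit false
set_option linter.style.haveILetI false
set_option linter.unusedSectionVars false

namespace CfsgSRGUnique

open Finset

/-- Gram matrix of fifteen vectors of norm four in a five dimensional space. -/
structure Fifteen {ι : Type*} [Fintype ι] (Q : ι → ι → ℤ) : Prop where
  card : Fintype.card ι = 15
  diag : ∀ a, Q a a = 4
  symm : ∀ a b, Q a b = Q b a
  off : ∀ a b, a ≠ b → Q a b = 1 ∨ Q a b = -2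
  tot : ∀ a, ∑ e, Q a e = 0
  sq : ∀ a b, ∑ e, Q a e * Q b e = 12 * Q a b

variable {ι : Type*} [Fintype ι] [DecidableEq ι] {Q : ι → ι → ℤ} (h : Fifteen Q)

/-- A star: five vectors with all mutual products one. -/
def IsStar (Q : ι → ι → ℤ) (s : Finset ι) : Prop := s.card = 5 ∧ ∀ a ∈ s, ∀ b ∈ s, a ≠ b → Q a b = 1

include h

theorem Fifteen.lin (a b : ι) (p q : ℤ) :
    ∑ e, (Q a e + p) * (Q b e + q) = 12 * Q a b + 15 * (p * q) := by
  have e1 : ∀ e, (Q a e + p) * (Q b e + q) = Q a e * Q b e + q * Q a e + p * Q b e + p * q := fun e => by ring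
  rw [sum_congr rfl fun e _ => e1 e, sum_add_distrib, sum_add_distrib, sum_add_distrib, h.sq, ← mul_sum,
    ← mul_sum, h.tot, h.tot, sum_const, card_univ, h.card]
  simp

theorem Fifteen.count_one (a : ι) : (univ.filter fun e => Q a e = 1).card = 8 := by
  have e1 : ∀ e, Q a e + 2 = (if e = a then (6 : ℤ) else 0) + 3 * (if Q a e = 1 then 1 else 0) := by
    intro e
    by_cases he : e = a
    · subst he; rw [h.diag]; norm_num
    · rcases h.off a e (Ne.symm he) with q | q <;> rw [q] <;> simp [he]
  have e2 : ∑ e, (Q a e + 2) = 30 := by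
    rw [sum_add_distrib, h.tot, sum_const, card_univ, h.card]; norm_num
  rw [sum_congr rfl fun e _ => e1 e, sum_add_distrib, sum_ite_eq', if_pos (mem_univ a), ← mul_sum,
    sum_boole] at e2
  omega

theorem Fifteen.count_neg (a : ι) : (univ.filter fun e => Q a e = -2).card = 6 := by
  have e1 : ∀ e, Q a e - 1 = (if e = a then (3 : ℤ) else 0) - 3 * (if Q a e = -2 then 1 else 0) := by
    intro e
    by_cases he : e = a
    · subst he; rw [h.diag]; norm_num
    · rcases h.off a e (Ne.symm he) with q | q <;> rw [q] <;> simp [he]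
  have e2 : ∑ e, (Q a e - 1) = -15 := by
    rw [sum_sub_distrib, h.tot, sum_const, card_univ, h.card]; norm_num
  rw [sum_congr rfl fun e _ => e1 e, sum_sub_distrib, sum_ite_eq', if_pos (mem_univ a), ← mul_sum,
    sum_boole] at e2
  omega

theorem Fifteen.pair_count {a b : ι} (hab : a ≠ b) (p q : ℤ) (s t : ℤ)
    (hs : ∀ v, (v = 1 ∨ v = -2) → v + p = 0 ∨ v = s) (ht : ∀ v, (v = 1 ∨ v = -2) → v + q = 0 ∨ v = t)
    (hs0 : s = 1 ∨ s = -2) (ht0 : t = 1 ∨ t = -2) :
    (s + p) * (t + q) * ((univ.filter fun e => Q a e = s ∧ Q b e = t).card : ℤ)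
      + (4 + p) * (Q a b + q) + (Q a b + p) * (4 + q) = 12 * Q a b + 15 * (p * q) := by
  have e1 : ∀ e, (Q a e + p) * (Q b e + q) =
      (s + p) * (t + q) * (if Q a e = s ∧ Q b e = t then 1 else 0)
        + (if e = a then (4 + p) * (Q a b + q) else 0) + (if e = b then (Q a b + p) * (4 + q) else 0) := by
    intro e
    by_cases ha : e = a
    · subst ha
      have : ¬ (Q e e = s ∧ Q b e = t) := fun c => by rw [h.diag] at c; omega
      rw [if_neg this, if_pos rfl, if_neg hab, h.diag, h.symm b e]; ring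
    by_cases hb : e = b
    · subst hb
      have : ¬ (Q a e = s ∧ Q e e = t) := fun c => by rw [h.diag] at c; omega
      rw [if_neg this, if_neg ha, if_pos rfl, h.diag]; ring
    rw [if_neg ha, if_neg hb]
    rcases hs _ (h.off a e (Ne.symm ha)) with c | c <;> rcases ht _ (h.off b e (Ne.symm hb)) with d | d
    · rw [c, zero_mul]
      split_ifs with g
      · rw [← g.1, c]; ring
      · ring
    · rw [c, zero_mul]
      split_ifs with g
      · rw [← g.1, c]; ring
      · ring
    · rw [d, mul_zero]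
      split_ifs with g
      · rw [← g.2, d]; ring
      · ring
    · rw [if_pos ⟨c, d⟩, c, d]; ring
  have e2 := h.lin a b p q
  rw [sum_congr rfl fun e _ => e1 e, sum_add_distrib, sum_add_distrib, sum_ite_eq', if_pos (mem_univ a),
    sum_ite_eq', if_pos (mem_univ b), ← mul_sum, sum_boole] at e2
  exact e2

theorem Fifteen.common_neg {a b : ι} (hab : Q a b = -2) :
    ∃ t, (univ.filter fun e => Q a e = -2 ∧ Q b e = -2) = {t} ∧ ∀ e, Q a e + Q b e + Q t e = 0 := by
  have hne : a ≠ b := fun e => by rw [e, h.diag] at hab; omega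
  have h1 := h.pair_count hne (-1) (-1) (-2) (-2) (fun v hv => by omega) (fun v hv => by omega)
    (Or.inr rfl) (Or.inr rfl)
  rw [hab] at h1
  obtain ⟨t, ht⟩ := card_eq_one.mp (show (univ.filter fun e => Q a e = -2 ∧ Q b e = -2).card = 1 by omega)
  refine ⟨t, ht, ?_⟩
  have ht' : Q a t = -2 ∧ Q b t = -2 := by
    have : t ∈ univ.filter fun e => Q a e = -2 ∧ Q b e = -2 := by rw [ht]; exact mem_singleton_self t
    simpa using this
  have h2 : ∑ e, (Q a e + Q b e + Q t e) ^ 2 = 0 := by
    have e1 : ∀ e, (Q a e + Q b e + Q t e) ^ 2 = Q a e * Q a e + Q b e * Q b e + Q t e * Q t e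
        + 2 * (Q a e * Q b e) + 2 * (Q a e * Q t e) + 2 * (Q b e * Q t e) := fun e => by ring
    rw [sum_congr rfl fun e _ => e1 e]
    simp only [sum_add_distrib, ← mul_sum, h.sq, h.diag, hab, ht'.1, ht'.2]
    norm_num
  intro e
  have := (sum_eq_zero_iff_of_nonneg fun e _ => sq_nonneg _).mp h2 e (mem_univ e)
  exact pow_eq_zero_iff (two_ne_zero) |>.mp this

/-- The four vectors of product one with both members of a pair of product one. -/
theorem Fifteen.star_pair {y z : ι} (hyz : Q y z = 1) :
    ∃ w0 ∈ univ.filter (fun e => Q y e = 1 ∧ Q z e = 1),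
      (univ.filter fun e => Q y e = 1 ∧ Q z e = 1).card = 4 ∧
      (∀ w ∈ univ.filter (fun e => Q y e = 1 ∧ Q z e = 1), w ≠ w0 → Q w0 w = -2) ∧
      (∀ w ∈ univ.filter (fun e => Q y e = 1 ∧ Q z e = 1), ∀ w' ∈ univ.filter (fun e => Q y e = 1 ∧ Q z e = 1),
        w ≠ w0 → w' ≠ w0 → w ≠ w' → Q w w' = 1) := by
  classical
  have hne : y ≠ z := fun e => by rw [e, h.diag] at hyz; omega
  have hne' : z ≠ y := Ne.symm hne
  set W := univ.filter (fun e => Q y e = 1 ∧ Q z e = 1) with hW
  set B := univ.filter (fun e => Q y e = 1 ∧ Q z e = -2) with hB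
  set B' := univ.filter (fun e => Q y e = -2 ∧ Q z e = 1) with hB'
  set C := univ.filter (fun e => Q y e = -2 ∧ Q z e = -2) with hC
  have cW : W.card = 4 := by
    have h1 := h.pair_count hne 2 2 1 1 (fun v hv => by omega) (fun v hv => by omega) (Or.inl rfl) (Or.inl rfl)
    rw [hyz, ← hW] at h1; omega
  have cB : B.card = 3 := by
    have h1 := h.pair_count hne 2 (-1) 1 (-2) (fun v hv => by omega) (fun v hv => by omega) (Or.inl rfl) (Or.inr rfl)
    rw [hyz, ← hB] at h1; omega
  have cB' : B'.card = 3 := by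
    have h1 := h.pair_count hne (-1) 2 (-2) 1 (fun v hv => by omega) (fun v hv => by omega) (Or.inr rfl) (Or.inl rfl)
    rw [hyz, ← hB'] at h1; omega
  have cC : C.card = 3 := by
    have h1 := h.pair_count hne (-1) (-1) (-2) (-2) (fun v hv => by omega) (fun v hv => by omega)
      (Or.inr rfl) (Or.inr rfl)
    rw [hyz, ← hC] at h1; omega
  have split : ∀ f : ι → ℤ, ∑ e, f e =
      f y + f z + ∑ e ∈ W, f e + ∑ e ∈ B, f e + ∑ e ∈ B', f e + ∑ e ∈ C, f e := by
    intro f
    have e1 : ∀ e, f e = (if e = y then f y else 0) + (if e = z then f z else 0)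
        + (if Q y e = 1 ∧ Q z e = 1 then f e else 0) + (if Q y e = 1 ∧ Q z e = -2 then f e else 0)
        + (if Q y e = -2 ∧ Q z e = 1 then f e else 0) + (if Q y e = -2 ∧ Q z e = -2 then f e else 0) := by
      intro e
      by_cases ha : e = y
      · subst ha; simp [h.diag, hne]
      by_cases hb : e = z
      · subst hb; simp [h.diag, hne']
      rcases h.off y e (Ne.symm ha) with c | c <;> rcases h.off z e (Ne.symm hb) with d | d <;>
        simp [c, d, ha, hb]
    rw [sum_congr rfl fun e _ => e1 e]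
    simp only [sum_add_distrib, sum_ite_eq', mem_univ, if_true, hW, hB, hB', hC, sum_filter]
  -- products with the third point of a pair of product minus two
  have inC : ∀ c ∈ C, (W.filter fun w => Q c w = -2).card = 2 := by
    intro c hc
    rw [hC, mem_filter] at hc
    obtain ⟨-, hcy, hcz⟩ := hc
    have hcy' : Q c y = -2 := h.symm c y ▸ hcy
    have hcz' : Q c z = -2 := h.symm c z ▸ hcz
    obtain ⟨t, ht, htr⟩ := h.common_neg hcz'
    obtain ⟨t', ht', htr'⟩ := h.common_neg hcy'
    have a1 := htr y; have a2 := htr z; have a3 := htr' y; have a4 := htr' z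
    rw [hcy', h.symm z y, hyz] at a1
    rw [hcz', h.diag] at a2
    rw [hcy', h.diag] at a3
    rw [hcz', hyz] at a4
    have key : (univ.filter fun e => Q c e = -2) =
        ({y, z, t, t'} : Finset ι) ∪ W.filter fun w => Q c w = -2 := by
      ext e
      simp only [mem_filter, mem_univ, true_and, mem_union, mem_insert, mem_singleton, hW]
      constructor
      · intro he
        by_cases ha : e = y
        · exact Or.inl (Or.inl ha)
        by_cases hb : e = z
        · exact Or.inl (Or.inr (Or.inl hb))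
        rcases h.off z e (Ne.symm hb) with d | d
        · rcases h.off y e (Ne.symm ha) with d' | d'
          · exact Or.inr ⟨⟨d', d⟩, he⟩
          · have : e ∈ univ.filter fun e => Q c e = -2 ∧ Q y e = -2 := by simp [he, d']
            rw [ht', mem_singleton] at this
            exact Or.inl (Or.inr (Or.inr (Or.inr this)))
        · have : e ∈ univ.filter fun e => Q c e = -2 ∧ Q z e = -2 := by simp [he, d]
          rw [ht, mem_singleton] at this
          exact Or.inl (Or.inr (Or.inr (Or.inl this)))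
      · rintro ((rfl | rfl | rfl | rfl) | he)
        · exact hcy'
        · exact hcz'
        · have : e ∈ univ.filter fun e => Q c e = -2 ∧ Q z e = -2 := by rw [ht]; exact mem_singleton_self _
          simpa using (mem_filter.mp this).2.1
        · have : e ∈ univ.filter fun e => Q c e = -2 ∧ Q y e = -2 := by rw [ht']; exact mem_singleton_self _
          simpa using (mem_filter.mp this).2.1
        · exact he.2
    have hty : Q t y = 1 := by omega
    have htz : Q t z = -2 := by omega
    have hty' : Q t' y = -2 := by omega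
    have htz' : Q t' z = 1 := by omega
    have hd : Disjoint ({y, z, t, t'} : Finset ι) (W.filter fun w => Q c w = -2) := by
      rw [disjoint_left]
      intro e he he'
      simp only [hW, mem_filter, mem_univ, true_and] at he'
      simp only [mem_insert, mem_singleton] at he
      rcases he with rfl | rfl | rfl | rfl
      · rw [h.diag] at he'; omega
      · rw [h.diag] at he'; omega
      · rw [h.symm z, htz] at he'; omega
      · rw [h.symm y, hty'] at he'; omega
    have h4 : ({y, z, t, t'} : Finset ι).card = 4 := by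
      have n1 : t ≠ y := fun e => by rw [e, h.diag] at hty; omega
      have n2 : t ≠ z := fun e => by rw [e, h.diag] at htz; omega
      have n3 : t' ≠ y := fun e => by rw [e, h.diag] at hty'; omega
      have n4 : t' ≠ z := fun e => by rw [e, h.diag] at htz'; omega
      have n5 : t ≠ t' := fun e => by rw [e] at hty; omega
      simp [hne, n1.symm, n2.symm, n3.symm, n4.symm, n5]
    have h6 := h.count_neg c
    rw [key, card_union_of_disjoint hd, h4] at h6
    omega
  have rowW : ∀ e, e ∉ W → ∑ w ∈ W, Q w e = 4 - 3 * ((W.filter fun w => Q e w = -2).card : ℤ) := by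
    intro e he
    have e1 : ∀ w ∈ W, Q w e = 1 - 3 * (if Q e w = -2 then 1 else 0) := by
      intro w hw
      rw [h.symm w e]
      rcases h.off e w (fun c => he (c ▸ hw)) with q | q <;> rw [q] <;> norm_num
    rw [sum_congr rfl e1, sum_sub_distrib, ← mul_sum, sum_boole, sum_const, cW]; norm_num
  let u : ι → ℤ := fun e => Q y e + Q z e - ∑ w ∈ W, Q w e
  have uC : ∀ c ∈ C, u c = -2 := by
    intro c hc
    have hc' := inC c hc
    simp only [hC, mem_filter] at hc
    show Q y c + Q z c - ∑ w ∈ W, Q w c = -2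
    rw [rowW c (fun hw => by simp [hW, hc.2.1] at hw), hc', hc.2.1, hc.2.2]; norm_num
  have uBgen : ∀ y z : ι, ∀ b : ι, Q y z = 1 → Q y b = 1 → Q z b = -2 →
      (∀ c, Q y c = -2 → Q z c = -2 → c ∈ C) → (∀ w ∈ W, Q z w = 1) →
      ∑ w ∈ W, Q w b = -2 := by
    intro y z b hyz hby hbz hmem hzW
    obtain ⟨c, hc, hcr⟩ := h.common_neg (show Q b z = -2 from h.symm b z ▸ hbz)
    have hcm : Q b c = -2 ∧ Q z c = -2 := by
      have : c ∈ univ.filter fun e => Q b e = -2 ∧ Q z e = -2 := by rw [hc]; exact mem_singleton_self _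
      simpa using this
    have a1 := hcr y
    rw [h.symm b y, hby, h.symm z y, hyz] at a1
    have hcC : c ∈ C := hmem c (h.symm y c ▸ (by omega : Q c y = -2)) hcm.2
    have e1 : ∀ w ∈ W, Q w b = - 1 - Q w c := fun w hw => by
      have := hcr w
      rw [hzW w hw] at this
      rw [h.symm w b, h.symm w c]; omega
    rw [sum_congr rfl e1, sum_sub_distrib, sum_const, cW,
      rowW c (fun hw => by simp only [hW, hC, mem_filter] at hw hcC; omega), inC c hcC]
    norm_num
  have uB : ∀ b ∈ B, u b = 1 := by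
    intro b hb
    simp only [hB, mem_filter] at hb
    show Q y b + Q z b - ∑ w ∈ W, Q w b = 1
    rw [uBgen y z b hyz hb.2.1 hb.2.2 (fun c h1 h2 => by simp [hC, h1, h2])
      (fun w hw => by simp [hW] at hw; exact hw.2), hb.2.1, hb.2.2]
    norm_num
  have uB' : ∀ b ∈ B', u b = 1 := by
    intro b hb
    simp only [hB', mem_filter] at hb
    show Q y b + Q z b - ∑ w ∈ W, Q w b = 1
    rw [uBgen z y b (h.symm z y ▸ hyz) hb.2.2 hb.2.1 (fun c h1 h2 => by simp [hC, h1, h2])
      (fun w hw => by simp [hW] at hw; exact hw.1), hb.2.1, hb.2.2]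
    norm_num
  let d : ι → ℕ := fun w => (W.filter fun v => Q w v = -2).card
  have uW : ∀ w ∈ W, u w = 3 * (d w : ℤ) - 5 := by
    intro w hw
    have e1 : ∀ v ∈ W, Q v w = (if v = w then (3 : ℤ) else 0) + 1 - 3 * (if Q w v = -2 then 1 else 0) := by
      intro v _
      rw [h.symm v w]
      by_cases hv : v = w
      · subst hv; rw [h.diag]; norm_num
      · rcases h.off w v (Ne.symm hv) with q | q <;> rw [q] <;> simp [hv]
    show Q y w + Q z w - ∑ v ∈ W, Q v w = _
    rw [sum_congr rfl e1, sum_sub_distrib, sum_add_distrib, sum_ite_eq', if_pos hw, sum_const, cW, ← mul_sum,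
      sum_boole]
    simp only [hW, mem_filter] at hw
    rw [hw.2.1, hw.2.2]
    simp only [d, ← hW]
    ring
  have rowy : ∑ w ∈ W, Q w y = 4 ∧ ∑ w ∈ W, Q w z = 4 := by
    constructor <;>
    · rw [sum_congr rfl fun w hw => show _ = (1 : ℤ) by
        simp only [hW, mem_filter] at hw
        first | exact h.symm w y ▸ hw.2.1 | exact h.symm w z ▸ hw.2.2]
      simp [cW]
  have uy : u y = 1 ∧ u z = 1 := by
    refine ⟨?_, ?_⟩
    · show Q y y + Q z y - _ = _; rw [h.diag, h.symm z y, hyz, rowy.1]; norm_num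
    · show Q y z + Q z z - _ = _; rw [h.diag, hyz, rowy.2]; norm_num
  have totu : ∑ e, u e = 0 := by
    show ∑ e, (Q y e + Q z e - ∑ w ∈ W, Q w e) = 0
    rw [sum_sub_distrib, sum_add_distrib, h.tot, h.tot, sum_comm, sum_congr rfl fun w _ => h.tot w]; simp
  have rowu : ∀ a, ∑ e, u e * Q a e = 12 * u a := by
    intro a
    show ∑ e, (Q y e + Q z e - ∑ w ∈ W, Q w e) * Q a e = 12 * (Q y a + Q z a - ∑ w ∈ W, Q w a)
    simp only [sub_mul, add_mul, sum_sub_distrib, sum_add_distrib, sum_mul, h.sq]
    rw [sum_comm, sum_congr rfl fun w _ => h.sq w a, ← mul_sum]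
    ring
  have s1 := split u
  rw [totu, uy.1, uy.2, sum_congr rfl uC, sum_congr rfl uB, sum_congr rfl uB', sum_const, sum_const,
    sum_const, cB, cB', cC] at s1
  norm_num at s1
  have s2 : ∑ e, u e * u e = 48 := by
    have e1 : ∀ e, u e * u e = u e * Q y e + u e * Q z e - ∑ w ∈ W, u e * Q w e := fun e => by
      rw [← mul_sum, ← mul_add, ← mul_sub]
    rw [sum_congr rfl fun e _ => e1 e, sum_sub_distrib, sum_add_distrib, rowu, rowu, sum_comm,
      sum_congr rfl fun w _ => rowu w, ← mul_sum, uy.1, uy.2]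
    omega
  rw [split, uy.1, uy.2, sum_congr (s₁ := C) rfl (fun e he => show u e * u e = 4 by rw [uC e he]; norm_num),
    sum_congr (s₁ := B) rfl (fun e he => show u e * u e = 1 by rw [uB e he]; norm_num),
    sum_congr (s₁ := B') rfl (fun e he => show u e * u e = 1 by rw [uB' e he]; norm_num), sum_const, sum_const,
    sum_const, cB, cB', cC] at s2
  norm_num at s2
  have d1 : ∑ w ∈ W, (d w : ℤ) = 6 := by
    rw [sum_congr rfl uW, sum_sub_distrib, ← mul_sum, sum_const, cW] at s1
    norm_num at s1; omega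
  have d2 : ∑ w ∈ W, (d w : ℤ) ^ 2 = 12 := by
    rw [sum_congr rfl (fun w hw => show u w * u w = 9 * (d w : ℤ) ^ 2 - 30 * (d w : ℤ) + 25 by
      rw [uW w hw]; ring), sum_add_distrib, sum_sub_distrib, ← mul_sum, ← mul_sum, sum_const, cW, d1] at s2
    norm_num at s2; omega
  have dle : ∀ w ∈ W, d w ≤ 3 := fun w hw => by
    have h1 : W.filter (fun v => Q w v = -2) ⊆ W.erase w := fun v hv => by
      simp only [mem_filter] at hv
      exact mem_erase.mpr ⟨fun e => by rw [e, h.diag] at hv; omega, hv.1⟩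
    have := card_le_card h1
    rw [card_erase_of_mem hw, cW] at this
    exact this
  have tri : ∀ a ∈ W, ∀ b ∈ W, ∀ c ∈ W, Q a b = -2 → Q a c = -2 → Q b c = -2 → False := by
    intro a ha b hb c hc q1 q2 q3
    obtain ⟨t, ht, htr⟩ := h.common_neg q1
    have : c ∈ univ.filter fun e => Q a e = -2 ∧ Q b e = -2 := by simp [q2, q3]
    rw [ht, mem_singleton] at this
    subst this
    have h3 := htr y
    simp only [hW, mem_filter] at ha hb hc
    rw [h.symm a y, ha.2.1, h.symm b y, hb.2.1, h.symm c y, hc.2.1] at h3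
    omega
  obtain ⟨w0, hw0, hd0⟩ : ∃ w ∈ W, d w = 3 := by
    by_contra hno
    push Not at hno
    have h2 : ∀ w ∈ W, (d w : ℤ) ^ 2 = 2 * (d w : ℤ) ∧ d w ≤ 2 := by
      have h0 : ∑ w ∈ W, ((d w : ℤ) * (2 - d w)) = 0 := by
        rw [sum_congr rfl fun w _ => show (d w : ℤ) * (2 - d w) = 2 * (d w : ℤ) - (d w : ℤ) ^ 2 by ring,
          sum_sub_distrib, ← mul_sum, d1, d2]; norm_num
      have hle : ∀ w ∈ W, d w ≤ 2 := fun w hw => by have := dle w hw; have := hno w hw; omega
      intro w hw
      have := (sum_eq_zero_iff_of_nonneg fun v hv => by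
        have := hle v hv
        exact mul_nonneg (by positivity) (by omega)).mp h0 w hw
      exact ⟨by linear_combination -this, hle w hw⟩
    have h3 : (W.filter fun w => d w = 2).card = 3 := by
      have e1 : ∀ w ∈ W, (d w : ℤ) = 2 * (if d w = 2 then 1 else 0) := fun w hw => by
        obtain ⟨q, q'⟩ := h2 w hw
        generalize d w = n at q q' ⊢
        interval_cases n <;> first | (norm_num at q; done) | norm_num
      rw [sum_congr rfl e1, ← mul_sum, sum_boole] at d1
      omega
    obtain ⟨a, b, c, hab, hac, hbc, heq⟩ := card_eq_three.mp h3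
    have hmem : ∀ w, w ∈ ({a, b, c} : Finset ι) → w ∈ W ∧ d w = 2 := fun w hw => by
      rw [← heq, mem_filter] at hw; exact hw
    have hnb : ∀ w, w ∈ ({a, b, c} : Finset ι) →
        W.filter (fun v => Q w v = -2) = ({a, b, c} : Finset ι).erase w := by
      intro w hw
      obtain ⟨hwW, hwd⟩ := hmem w hw
      refine eq_of_subset_of_card_le (fun v hv => ?_) ?_
      · simp only [mem_filter] at hv
        refine mem_erase.mpr ⟨fun e => by rw [e, h.diag] at hv; omega, ?_⟩
        rw [← heq, mem_filter]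
        refine ⟨hv.1, ?_⟩
        have h1 : 1 ≤ d v := card_pos.mpr ⟨w, by simp [hwW, h.symm v w, hv.2]⟩
        obtain ⟨q, q'⟩ := h2 v hv.1
        generalize d v = n at q q' h1 ⊢
        interval_cases n <;> simp_all
      · rw [card_erase_of_mem hw, show ({a, b, c} : Finset ι).card = 3 by simp [hab, hac, hbc]]
        exact hwd.ge
    have qa : b ∈ W.filter (fun v => Q a v = -2) ∧ c ∈ W.filter (fun v => Q a v = -2) := by
      rw [hnb a (by simp)]; simp [hab, hac, hab.symm, hac.symm]
    have qb : c ∈ W.filter (fun v => Q b v = -2) := by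
      rw [hnb b (by simp)]; simp [hbc, hbc.symm]
    simp only [mem_filter] at qa qb
    exact tri a (hmem a (by simp)).1 b qa.1.1 c qb.1 qa.1.2 qa.2.2 qb.2
  have hall : ∀ w ∈ W, w ≠ w0 → Q w0 w = -2 := by
    have h1 : W.filter (fun v => Q w0 v = -2) = W.erase w0 := by
      refine eq_of_subset_of_card_le (fun v hv => ?_) ?_
      · simp only [mem_filter] at hv
        exact mem_erase.mpr ⟨fun e => by rw [e, h.diag] at hv; omega, hv.1⟩
      · rw [card_erase_of_mem hw0, cW]; exact hd0.ge
    intro w hw hne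
    have : w ∈ W.filter (fun v => Q w0 v = -2) := by rw [h1]; exact mem_erase.mpr ⟨hne, hw⟩
    exact (mem_filter.mp this).2
  refine ⟨w0, hw0, cW, hall, fun w hw w' hw' n1 n2 n3 => ?_⟩
  rcases h.off w w' n3 with q | q
  · exact q
  · exact (tri w0 hw0 w hw w' hw' (hall w hw n1) (hall w' hw' n2) q).elim

theorem Fifteen.exists_star {y z : ι} (hyz : Q y z = 1) : ∃! s, IsStar Q s ∧ y ∈ s ∧ z ∈ s := by
  obtain ⟨w0, hw0, cW, hall, hS⟩ := h.star_pair hyz
  have hne : y ≠ z := fun e => by rw [e, h.diag] at hyz; omega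
  set W := univ.filter (fun e => Q y e = 1 ∧ Q z e = 1) with hW
  have hWy : ∀ w ∈ W, Q y w = 1 ∧ Q z w = 1 := fun w hw => by simpa [hW] using hw
  have hy : y ∉ W.erase w0 := fun hm => by
    have := (hWy y (mem_of_mem_erase hm)).1; rw [h.diag] at this; omega
  have hz : z ∉ W.erase w0 := fun hm => by
    have := (hWy z (mem_of_mem_erase hm)).2; rw [h.diag] at this; omega
  refine ⟨insert y (insert z (W.erase w0)), ⟨⟨?_, ?_⟩, by simp, by simp⟩, ?_⟩
  · rw [card_insert_of_notMem (by simp only [mem_insert, not_or]; exact ⟨hne, hy⟩),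
      card_insert_of_notMem hz, card_erase_of_mem hw0, cW]
  · intro a ha b hb hab
    simp only [mem_insert, mem_erase] at ha hb
    rcases ha with rfl | rfl | ⟨n1, ha⟩ <;> rcases hb with rfl | rfl | ⟨n2, hb⟩
    · exact absurd rfl hab
    · exact hyz
    · exact (hWy b hb).1
    · rw [h.symm]; exact hyz
    · exact absurd rfl hab
    · exact (hWy b hb).2
    · rw [h.symm]; exact (hWy a ha).1
    · rw [h.symm]; exact (hWy a ha).2
    · exact hS a ha b hb n1 n2 hab
  · rintro s ⟨⟨hs5, hs⟩, hys, hzs⟩
    have hsub : (s.erase y).erase z ⊆ W.erase w0 := by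
      have hin : ∀ w ∈ (s.erase y).erase z, w ∈ W := fun w hw => by
        simp only [mem_erase] at hw
        simp [hW, hs y hys w hw.2.2 (Ne.symm hw.2.1), hs z hzs w hw.2.2 (Ne.symm hw.1)]
      intro w hw
      refine mem_erase.mpr ⟨?_, hin w hw⟩
      rintro rfl
      obtain ⟨v, hv, hvw⟩ := exists_mem_ne (s := (s.erase y).erase z)
        (by rw [card_erase_of_mem (mem_erase.mpr ⟨hne.symm, hzs⟩), card_erase_of_mem hys, hs5]; norm_num) w
      have h1 := hall v (hin v hv) hvw
      rw [hs w (mem_of_mem_erase (mem_of_mem_erase hw)) v (mem_of_mem_erase (mem_of_mem_erase hv))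
        (Ne.symm hvw)] at h1
      omega
    have heq : (s.erase y).erase z = W.erase w0 := by
      refine eq_of_subset_of_card_le hsub ?_
      rw [card_erase_of_mem hw0, cW, card_erase_of_mem (mem_erase.mpr ⟨hne.symm, hzs⟩),
        card_erase_of_mem hys, hs5]
    rw [← heq, insert_erase (mem_erase.mpr ⟨hne.symm, hzs⟩), insert_erase hys]

theorem Fifteen.star_count (y : ι) :
    ((univ : Finset (Finset ι)).filter fun s => (s.card = 5 ∧ ∀ a ∈ s, ∀ b ∈ s, a ≠ b → Q a b = 1) ∧ y ∈ s).card = 2 := by
  classical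
  set St := (univ : Finset (Finset ι)).filter
    fun s => (s.card = 5 ∧ ∀ a ∈ s, ∀ b ∈ s, a ≠ b → Q a b = 1) ∧ y ∈ s with hSt
  have hd : (St : Set (Finset ι)).PairwiseDisjoint fun s => s.erase y := by
    intro s hs t ht hne
    simp only [hSt, coe_filter, mem_univ, true_and, Set.mem_ofPred_eq] at hs ht
    refine disjoint_left.mpr fun z hz hz' => hne ?_
    obtain ⟨hzy, hzs⟩ := mem_erase.mp hz
    exact (h.exists_star (hs.1.2 y hs.2 z hzs (Ne.symm hzy))).unique ⟨hs.1, hs.2, hzs⟩
      ⟨ht.1, ht.2, mem_of_mem_erase hz'⟩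
  have hU : St.biUnion (fun s => s.erase y) = univ.filter fun e => Q y e = 1 := by
    ext z
    simp only [mem_biUnion, hSt, mem_filter, mem_univ, true_and]
    refine ⟨fun ⟨s, hs, hz⟩ => hs.1.2 y hs.2 z (mem_of_mem_erase hz) (Ne.symm (ne_of_mem_erase hz)), fun hz => ?_⟩
    obtain ⟨s, ⟨hs, hys, hzs⟩, -⟩ := h.exists_star hz
    exact ⟨s, ⟨hs, hys⟩, mem_erase.mpr ⟨fun e => by rw [e, h.diag] at hz; omega, hzs⟩⟩
  have h8 := congrArg Finset.card hU
  rw [card_biUnion hd, h.count_one, sum_congr rfl (fun s hs => show (s.erase y).card = 4 by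
    simp only [hSt, mem_filter, mem_univ, true_and] at hs
    rw [card_erase_of_mem hs.2, hs.1.1]), sum_const, smul_eq_mul] at h8
  omega

end CfsgSRGUnique
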