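/-
A strongly regular graph with parameters (77, 16, 0, 4) is the block graph of S(3,6,22).
-/
import Cfsg.Agent.Lib.SRGUnique.Fifteen
import Cfsg.Agent.Lib.GolayUnique.Model
import Cfsg.Prelude.Def_Sporadic_a

set_option autoImplicit false
set_option linter.style.haveILetI false
set_option linter.unusedSectionVars false

namespace CfsgSRGUnique.SeventySeven

open Finset SimpleGraph

variable {V : Type*} [Fintype V] [DecidableEq V] {G : SimpleGraph V} [DecidableRel G.Adj]
  (hG : G.IsSRGWith 77 16 0 4)

/-- Adjacency as a number. -/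
def aNum (G : SimpleGraph V) [DecidableRel G.Adj] (v w : V) : ℤ := if G.Adj v w then 1 else 0

/-- A multiple of the idempotent for the eigenvalue minus six. -/
def gram (G : SimpleGraph V) [DecidableRel G.Adj] (v w : V) : ℤ :=
  (if v = w then 22 else 0) + (2 - 11 * aNum G v w)

/-- The trace on the neighbours of a base vertex. -/
def blk (G : SimpleGraph V) [DecidableRel G.Adj] (x y : V) : Finset V :=
  (G.neighborFinset x).filter (G.Adj y)

/-- The vertices away from a base vertex. -/
def far (G : SimpleGraph V) [DecidableRel G.Adj] (x : V) : Finset V :=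
  univ.filter fun y => y ≠ x ∧ ¬ G.Adj x y

/-- The projection orthogonal to a vertex and its neighbours. -/
def row (G : SimpleGraph V) [DecidableRel G.Adj] (x y z : V) : ℤ :=
  6 * gram G y z + 3 * ∑ p ∈ blk G x y, gram G p z + 4 * gram G x z

/-- Inner products of the projections. -/
def qq (G : SimpleGraph V) [DecidableRel G.Adj] (x y z : V) : ℤ :=
  if y = z then 4 else if G.Adj y z then -2 else 4 - 3 * ((blk G x y ∩ blk G x z).card : ℤ)

theorem gram_symm (v w : V) : gram G v w = gram G w v := by
  simp only [gram, aNum, G.adj_comm v w, eq_comm]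

include hG

theorem no_triangle {u v w : V} (huv : G.Adj u v) (huw : G.Adj u w) (hvw : G.Adj v w) : False := by
  have h := hG.of_adj u v huv
  rw [Fintype.card_eq_zero_iff] at h
  exact h.false ⟨w, huw, hvw⟩

theorem sum_aNum (v : V) : ∑ z, aNum G v z = 16 := by
  simp only [aNum, sum_boole]
  rw [← neighborFinset_eq_filter, card_neighborFinset_eq_degree, hG.regular v]; rfl

theorem sum_common (v w : V) :
    ∑ z, aNum G v z * aNum G z w = if v = w then 16 else if G.Adj v w then 0 else 4 := by
  have e1 : ∀ z, aNum G v z * aNum G z w = if G.Adj v z ∧ G.Adj w z then 1 else 0 := fun z => by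
    simp only [aNum, G.adj_comm z w]
    by_cases h1 : G.Adj v z <;> by_cases h2 : G.Adj w z <;> simp [h1, h2]
  rw [sum_congr rfl fun z _ => e1 z, sum_boole]
  split_ifs with h h'
  · subst h
    simp only [and_self]
    rw [← neighborFinset_eq_filter, card_neighborFinset_eq_degree, hG.regular v]; rfl
  · rw [Nat.cast_eq_zero, card_eq_zero, filter_eq_empty_iff]
    exact fun z _ hz => no_triangle hG h' hz.1 hz.2
  · rw [← Nat.cast_ofNat, Nat.cast_inj, ← hG.of_not_adj h h', ← Fintype.card_subtype]
    exact Fintype.card_congr (Equiv.subtypeEquivRight fun z => by simp [mem_commonNeighbors])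

theorem sum_gram (v : V) : ∑ z, gram G v z = 0 := by
  simp only [gram, sum_add_distrib, sum_sub_distrib, sum_ite_eq, mem_univ, if_true, ← mul_sum,
    sum_aNum hG, sum_const, card_univ, hG.card]
  norm_num

theorem gram_sq (v w : V) : ∑ z, gram G v z * gram G z w = 88 * gram G v w := by
  have e1 : ∀ z, gram G v z * gram G z w =
      (if v = z then 22 * gram G z w else 0) + (if z = w then 22 * (2 - 11 * aNum G v z) else 0)
        + (121 * (aNum G v z * aNum G z w) - 22 * aNum G v z - 22 * aNum G w z + 4) := fun z => by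
    simp only [gram, aNum, G.adj_comm w z]
    split_ifs <;> ring
  rw [sum_congr rfl fun z _ => e1 z]
  simp only [sum_add_distrib, sum_sub_distrib, sum_ite_eq, sum_ite_eq', mem_univ, if_true, ← mul_sum,
    sum_aNum hG, sum_common hG, sum_const, card_univ, hG.card]
  simp only [gram, aNum]
  by_cases h : v = w
  · subst h; simp
  · by_cases h' : G.Adj v w <;> simp [h, h']

theorem card_blk {x y : V} (hy : y ∈ far G x) : (blk G x y).card = 4 := by
  simp only [far, mem_filter, mem_univ, true_and] at hy
  rw [← hG.of_not_adj hy.1.symm hy.2, ← Set.toFinset_card]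
  congr 1
  ext p; simp [blk, mem_commonNeighbors]

theorem row_base {x y : V} (hy : y ∈ far G x) : row G x y x = 0 := by
  have hc := card_blk hG hy
  have e1 : ∀ p ∈ blk G x y, gram G p x = -9 := fun p hp => by
    simp only [blk, mem_filter, mem_neighborFinset] at hp
    simp [gram, aNum, hp.1.ne', hp.1.symm]
  simp only [far, mem_filter, mem_univ, true_and] at hy
  rw [row, sum_congr rfl e1, sum_const, hc]
  simp [gram, aNum, hy.1, G.adj_comm y x, hy.2]

theorem row_nbr {x y p : V} (hy : y ∈ far G x) (hp : G.Adj x p) : row G x y p = 0 := by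
  have hc := card_blk hG hy
  have hyp : y ≠ p := fun e => (mem_filter.mp hy).2.2 (e ▸ hp)
  have e1 : ∀ q ∈ blk G x y, gram G q p = (if q = p then 22 else 0) + 2 := fun q hq => by
    simp only [blk, mem_filter, mem_neighborFinset] at hq
    have : ¬ G.Adj q p := fun h => no_triangle hG hq.1 hp h
    simp [gram, aNum, this]
  rw [row, sum_congr rfl e1, sum_add_distrib, sum_ite_eq', sum_const, hc]
  have hm : p ∈ blk G x y ↔ G.Adj y p := by simp [blk, hp]
  by_cases h : G.Adj y p <;> simp [hm, h, gram, aNum, hyp, hp.ne, hp]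

theorem row_far {x y z : V} (hy : y ∈ far G x) (hz : z ∈ far G x) :
    row G x y z = 11 * qq G x y z := by
  have hc := card_blk hG hy
  have hz' := (mem_filter.mp hz).2
  have e1 : ∀ p ∈ blk G x y, gram G p z = 2 - 11 * (if G.Adj z p then 1 else 0) := fun p hp => by
    simp only [blk, mem_filter, mem_neighborFinset] at hp
    have : p ≠ z := fun e => hz'.2 (e ▸ hp.1)
    simp [gram, aNum, this, G.adj_comm z p]
  rw [row, sum_congr rfl e1, sum_sub_distrib, ← mul_sum, sum_boole, sum_const, hc]
  have hk : (blk G x y).filter (G.Adj z) = blk G x y ∩ blk G x z := by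
    ext p; simp only [blk, mem_filter, mem_inter]; tauto
  rw [hk]
  simp only [qq, gram, aNum, hz'.1.symm, hz'.2, if_false]
  by_cases h : y = z
  · subst h; simp [hc]
  by_cases h' : G.Adj y z
  · have : blk G x y ∩ blk G x z = ∅ := by
      refine eq_empty_of_forall_notMem fun p hp => ?_
      simp only [blk, mem_inter, mem_filter] at hp
      exact no_triangle hG h' hp.1.2 hp.2.2
    simp [h, h', this]
  · simp [h, h']; ring

theorem row_support {x y : V} (hy : y ∈ far G x) {z : V} (hz : z ∉ far G x) : row G x y z = 0 := by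
  simp only [far, mem_filter, mem_univ, true_and, not_and, not_not] at hz
  by_cases e : z = x
  · subst e; exact row_base hG hy
  · exact row_nbr hG hy (hz e)

theorem qq_tot {x y : V} (hy : y ∈ far G x) : ∑ z ∈ far G x, qq G x y z = 0 := by
  have h : ∑ z, row G x y z = 0 := by
    simp only [row, sum_add_distrib, ← mul_sum]
    rw [sum_comm]
    simp [sum_gram hG]
  rw [← sum_subset (subset_univ (far G x)) (fun z _ hz => row_support hG hy hz),
    sum_congr rfl fun z hz => row_far hG hy hz, ← mul_sum] at h
  omega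

theorem qq_sq {x y w : V} (hy : y ∈ far G x) (hw : w ∈ far G x) :
    ∑ z ∈ far G x, qq G x y z * qq G x w z = 48 * qq G x y w := by
  have hrg : ∀ v, ∑ z, row G x y z * gram G v z = 88 * row G x y v := by
    intro v
    simp only [row, add_mul, mul_assoc, sum_add_distrib, ← mul_sum, sum_mul]
    rw [sum_comm]
    simp only [gram_symm v, gram_sq hG, ← mul_sum]
    ring
  have h : ∑ z, row G x y z * row G x w z = 528 * (11 * qq G x y w) := by
    have e1 : ∀ z, row G x y z * row G x w z = 6 * (row G x y z * gram G w z)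
        + 3 * (∑ p ∈ blk G x w, row G x y z * gram G p z) + 4 * (row G x y z * gram G x z) := fun z => by
      rw [← mul_sum]
      conv_lhs => rw [show row G x w z = 6 * gram G w z + 3 * ∑ p ∈ blk G x w, gram G p z + 4 * gram G x z from rfl]
      ring
    rw [sum_congr rfl fun z _ => e1 z]
    simp only [sum_add_distrib]
    rw [← mul_sum, ← mul_sum, ← mul_sum, sum_comm]
    simp only [hrg, row_base hG hy, row_far hG hy hw]
    rw [sum_congr rfl fun p hp => show 88 * row G x y p = 0 by
      simp only [blk, mem_filter, mem_neighborFinset] at hp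
      rw [row_nbr hG hy hp.1, mul_zero]]
    simp; ring
  rw [← sum_subset (subset_univ (far G x)) (fun z _ hz => by rw [row_support hG hy hz, zero_mul]),
    sum_congr rfl fun z hz => show row G x y z * row G x w z = 121 * (qq G x y z * qq G x w z) by
      rw [row_far hG hy hz, row_far hG hw hz]; ring, ← mul_sum] at h
  omega

omit hG in
theorem qq_symm (x y z : V) : qq G x y z = qq G x z y := by
  simp only [qq, G.adj_comm y z, inter_comm (blk G x y), eq_comm]

theorem qq_cases {x y z : V} (hy : y ∈ far G x) (hz : z ∈ far G x) :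
    qq G x y z = 4 ∨ qq G x y z = 1 ∨ qq G x y z = -2 := by
  have hle : -4 ≤ qq G x y z := by
    have h0 : 0 ≤ ∑ t ∈ far G x, (qq G x y t + qq G x z t) ^ 2 := sum_nonneg fun t _ => sq_nonneg _
    rw [sum_congr rfl fun t _ => show (qq G x y t + qq G x z t) ^ 2 = qq G x y t * qq G x y t
      + qq G x z t * qq G x z t + 2 * (qq G x y t * qq G x z t) by ring] at h0
    simp only [sum_add_distrib, ← mul_sum, qq_sq hG hy hy, qq_sq hG hy hz, qq_sq hG hz hz,
      show qq G x y y = 4 by simp [qq], show qq G x z z = 4 by simp [qq]] at h0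
    omega
  simp only [qq] at hle ⊢
  split_ifs at hle ⊢ <;> omega

theorem qq_row {x y z : V} (hy : y ∈ far G x) (hz : z ∈ far G x) (h : qq G x y z = 4) (t : V) :
    row G x y t = row G x z t := by
  by_cases ht : t ∈ far G x
  · have h0 : ∑ t ∈ far G x, (qq G x y t - qq G x z t) ^ 2 = 0 := by
      rw [sum_congr rfl fun t _ => show (qq G x y t - qq G x z t) ^ 2 = qq G x y t * qq G x y t
        + qq G x z t * qq G x z t - 2 * (qq G x y t * qq G x z t) by ring]
      simp only [sum_add_distrib, sum_sub_distrib, ← mul_sum, qq_sq hG hy hy, qq_sq hG hy hz,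
        qq_sq hG hz hz, h, show qq G x y y = 4 by simp [qq], show qq G x z z = 4 by simp [qq]]
      norm_num
    have := pow_eq_zero_iff two_ne_zero |>.mp ((sum_eq_zero_iff_of_nonneg fun t _ => sq_nonneg _).mp h0 t ht)
    rw [row_far hG hy ht, row_far hG hz ht]
    omega
  · rw [row_support hG hy ht, row_support hG hz ht]

omit hG in
/-- The class of a vertex away from the base vertex. -/
def cls (G : SimpleGraph V) [DecidableRel G.Adj] (x y : V) : Finset V :=
  (far G x).filter fun z => qq G x y z = 4

theorem mem_cls_self {x y : V} (hy : y ∈ far G x) : y ∈ cls G x y := by simp [cls, hy, qq]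

theorem qq_congr {x y z : V} (hy : y ∈ far G x) (hz : z ∈ far G x) (h : qq G x y z = 4) {t : V}
    (ht : t ∈ far G x) : qq G x y t = qq G x z t := by
  have := qq_row hG hy hz h t
  rw [row_far hG hy ht, row_far hG hz ht] at this
  omega

theorem cls_eq_iff {x y z : V} (hy : y ∈ far G x) (hz : z ∈ far G x) :
    cls G x y = cls G x z ↔ qq G x y z = 4 := by
  refine ⟨fun h => ?_, fun h => filter_congr fun t ht => by rw [qq_congr hG hy hz h ht]⟩
  have := h.symm ▸ mem_cls_self hG hz
  exact (mem_filter.mp this).2

theorem card_cls {x y : V} (hy : y ∈ far G x) : (cls G x y).card = 4 := by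
  have hT : (far G x).card = 60 := by
    have h : far G x = univ \ insert x (G.neighborFinset x) := by ext z; simp [far]
    rw [h, card_univ_diff, card_insert_of_notMem (by simp), card_neighborFinset_eq_degree, hG.regular x, hG.card]
  have e1 : ∀ z ∈ far G x, qq G x y z * qq G x y z + qq G x y z - 2 =
      18 * (if qq G x y z = 4 then 1 else 0) := fun z hz => by
    rcases qq_cases hG hy hz with q | q | q <;> rw [q] <;> norm_num
  have h := sum_congr rfl e1
  simp only [sum_sub_distrib, sum_add_distrib, ← mul_sum, qq_sq hG hy hy, qq_tot hG hy, sum_boole, sum_const, hT,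
    show qq G x y y = 4 by simp [qq]] at h
  norm_num at h
  simp only [cls]
  omega

omit hG in
/-- The classes seen from a vertex. -/
abbrev Cls (G : SimpleGraph V) [DecidableRel G.Adj] (x : V) : Type _ := ↥((far G x).image (cls G x))

omit hG in
/-- A member of a class. -/
noncomputable def rep {x : V} (c : Cls G x) : V := (mem_image.mp c.2).choose

omit hG in
theorem rep_spec {x : V} (c : Cls G x) : rep c ∈ far G x ∧ cls G x (rep c) = c.1 :=
  (mem_image.mp c.2).choose_spec

omit hG in
/-- Inner products of classes. -/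
noncomputable def qc {x : V} (a b : Cls G x) : ℤ := qq G x (rep a) (rep b)

theorem qc_eq {x : V} (a b : Cls G x) {y z : V} (hy : y ∈ a.1) (hz : z ∈ b.1) :
    qc a b = qq G x y z := by
  rw [← (rep_spec a).2, cls, mem_filter] at hy
  rw [← (rep_spec b).2, cls, mem_filter] at hz
  rw [qc, qq_congr hG (rep_spec a).1 hy.1 hy.2 (rep_spec b).1, qq_symm,
    qq_congr hG (rep_spec b).1 hz.1 hz.2 hy.1, qq_symm]

theorem sum_classes {x : V} (f : V → ℤ) (hf : ∀ y ∈ far G x, ∀ z ∈ cls G x y, f z = f y) :
    ∑ y ∈ far G x, f y = 4 * ∑ c : Cls G x, f (rep c) := by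
  rw [← sum_fiberwise_of_maps_to (g := cls G x) (t := (far G x).image (cls G x))
      (fun y hy => mem_image_of_mem _ hy), ← sum_coe_sort ((far G x).image (cls G x)), mul_sum]
  refine sum_congr rfl fun c _ => ?_
  have hc : (far G x).filter (fun y => cls G x y = c.1) = c.1 := by
    ext y
    rw [mem_filter, ← (rep_spec c).2]
    refine ⟨fun h => h.2 ▸ mem_cls_self hG h.1, fun h => ?_⟩
    simp only [cls, mem_filter] at h
    exact ⟨h.1, ((cls_eq_iff hG (rep_spec c).1 h.1).mpr h.2).symm⟩
  rw [hc, sum_congr rfl fun y hy => hf (rep c) (rep_spec c).1 y ((rep_spec c).2.symm ▸ hy), sum_const,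
    ← (rep_spec c).2, card_cls hG (rep_spec c).1]
  simp

theorem fifteen (x : V) : Fifteen (qc : Cls G x → Cls G x → ℤ) where
  card := by
    have h := sum_classes hG (x := x) (fun _ => 1) (fun _ _ _ _ => rfl)
    have h' : far G x = univ \ insert x (G.neighborFinset x) := by ext z; simp [far]
    have hT : (far G x).card = 60 := by
      rw [h', card_univ_diff, card_insert_of_notMem (by simp), card_neighborFinset_eq_degree, hG.regular x,
        hG.card]
    simp only [sum_const, hT, nsmul_eq_mul, mul_one, card_univ] at h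
    omega
  diag a := by simp [qc, qq]
  symm a b := qq_symm x _ _
  off a b hab := by
    rcases qq_cases hG (rep_spec a).1 (rep_spec b).1 with q | q | q
    · refine absurd (Subtype.ext ?_) hab
      rw [← (rep_spec a).2, ← (rep_spec b).2, cls_eq_iff hG (rep_spec a).1 (rep_spec b).1]
      exact q
    · exact Or.inl q
    · exact Or.inr q
  tot a := by
    have h := sum_classes hG (fun y => qq G x (rep a) y) fun y hy z hz => by
      simp only [cls, mem_filter] at hz
      rw [qq_symm x _ z, qq_symm x _ y, qq_congr hG hy hz.1 hz.2 (rep_spec a).1]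
    rw [qq_tot hG (rep_spec a).1] at h
    show ∑ c, qq G x (rep a) (rep c) = 0
    omega
  sq a b := by
    have h := sum_classes hG (fun y => qq G x (rep a) y * qq G x (rep b) y) fun y hy z hz => by
      simp only [cls, mem_filter] at hz
      show qq G x (rep a) z * qq G x (rep b) z = _
      rw [qq_symm x _ z, qq_symm x _ y, qq_symm x (rep b) z, qq_symm x (rep b) y,
        qq_congr hG hy hz.1 hz.2 (rep_spec a).1, qq_congr hG hy hz.1 hz.2 (rep_spec b).1]
    rw [qq_sq hG (rep_spec a).1 (rep_spec b).1] at h
    show ∑ c, qq G x (rep a) (rep c) * qq G x (rep b) (rep c) = 12 * qq G x (rep a) (rep b)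
    omega

omit hG in
/-- The independent sets of size twenty-one. -/
noncomputable def coc (G : SimpleGraph V) : Finset (Finset V) := by
  classical exact (univ : Finset (Finset V)).filter fun s => s.card = 21 ∧ ∀ a ∈ s, ∀ b ∈ s, ¬ G.Adj a b

omit hG in
theorem mem_coc {s : Finset V} : s ∈ coc G ↔ s.card = 21 ∧ ∀ a ∈ s, ∀ b ∈ s, ¬ G.Adj a b := by
  simp [coc]

theorem six_out {s : Finset V} (hs : s ∈ coc G) {v : V} (hv : v ∉ s) : ∑ z ∈ s, aNum G v z = 6 := by
  obtain ⟨h21, hco⟩ := mem_coc.mp hs
  set n : V → ℤ := fun v => ∑ z ∈ s, aNum G v z with hn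
  have hin : ∀ v ∈ s, n v = 0 := fun v hv => sum_eq_zero fun z hz => by simp [aNum, hco v hv z hz]
  have hsym : ∀ a b : V, aNum G a b = aNum G b a := fun a b => by simp [aNum, G.adj_comm]
  have e1 : ∑ v, n v = 336 := by
    simp only [hn]
    rw [sum_comm, sum_congr rfl fun z _ => by rw [sum_congr rfl fun v _ => hsym v z, sum_aNum hG], sum_const,
      h21]
    norm_num
  have e2 : ∑ v, n v * n v = 2016 := by
    simp only [hn, sum_mul_sum]
    rw [sum_comm, sum_congr rfl fun a ha => show (∑ v, ∑ b ∈ s, aNum G v a * aNum G v b) = 96 by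
      rw [sum_comm, sum_congr rfl fun b hb => show (∑ v, aNum G v a * aNum G v b) = (if a = b then 12 else 0) + 4 by
        rw [sum_congr rfl fun v _ => by rw [hsym v a], sum_common hG]
        by_cases e : a = b <;> simp [e, hco a ha b hb]]
      rw [sum_add_distrib, sum_ite_eq, if_pos ha, sum_const, h21]; norm_num]
    rw [sum_const, h21]; norm_num
  have e3 : ∑ v ∈ univ \ s, (n v - 6) ^ 2 = 0 := by
    have s1 := sum_sdiff (f := n) (subset_univ s)
    have s2 := sum_sdiff (f := fun v => n v * n v) (subset_univ s)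
    rw [e1, sum_eq_zero hin, add_zero] at s1
    rw [e2, sum_eq_zero (s := s) (fun v hv => by simp [hin v hv]), add_zero] at s2
    rw [sum_congr rfl fun v _ => show (n v - 6) ^ 2 = n v * n v - 12 * n v + 36 by ring, sum_add_distrib,
      sum_sub_distrib, ← mul_sum, s1, s2, sum_const, card_univ_diff, hG.card, h21]
    norm_num
  have := pow_eq_zero_iff two_ne_zero |>.mp
    ((sum_eq_zero_iff_of_nonneg fun v _ => sq_nonneg _).mp e3 v (by simp [hv]))
  simp only [hn] at this
  omega

theorem coc_union {x y z : V} {s : Finset V} (hs : s ∈ coc G) (hx : x ∈ s) (hy : y ∈ far G x)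
    (hz : z ∈ far G x) (h : qq G x y z = 4) (hys : y ∈ s) : z ∈ s := by
  obtain ⟨h21, hco⟩ := mem_coc.mp hs
  have hg : ∀ v, ∑ t ∈ s, gram G v t = 88 * (if v ∈ s then 1 else 0) - 24 := by
    intro v
    simp only [gram, sum_add_distrib, sum_sub_distrib, ← mul_sum, sum_ite_eq, sum_const, h21]
    by_cases hv : v ∈ s
    · rw [sum_eq_zero fun t ht => show aNum G v t = 0 by simp [aNum, hco v hv t ht]]; simp [hv]
    · rw [six_out hG hs hv]; simp [hv]
  have hr : ∀ w ∈ far G x, ∑ t ∈ s, row G x w t = 528 * (if w ∈ s then 1 else 0) - 176 := by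
    intro w hw
    simp only [row, sum_add_distrib, ← mul_sum]
    rw [sum_comm, sum_congr rfl fun p hp => show ∑ t ∈ s, gram G p t = -24 by
      have : p ∉ s := fun hp' => hco x hx p hp' (mem_filter.mp hp |>.1 |> (mem_neighborFinset _ _ _).mp)
      rw [hg p, if_neg this]; norm_num, sum_const, card_blk hG hw, hg, hg, if_pos hx]
    ring
  by_contra hzs
  have := sum_congr rfl fun t (_ : t ∈ s) => qq_row hG hy hz h t
  rw [hr y hy, hr z hz, if_pos hys, if_neg hzs] at this
  norm_num at this

theorem inter_blk {x y z : V} (hy : y ∈ far G x) (hz : z ∈ far G x) (hne : y ≠ z)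
    (hna : ¬ G.Adj y z) : qq G x y z = 4 - 3 * ((blk G x y ∩ blk G x z).card : ℤ) := by
  simp [qq, hne, hna]

theorem star_of_coc {x : V} {s : Finset V} (hs : s ∈ coc G) (hx : x ∈ s) :
    IsStar (qc : Cls G x → Cls G x → ℤ) (univ.filter fun c => c.1 ⊆ s) ∧
      insert x ((univ.filter fun c : Cls G x => c.1 ⊆ s).biUnion fun c => c.1) = s := by
  obtain ⟨h21, hco⟩ := mem_coc.mp hs
  set S := univ.filter fun c : Cls G x => c.1 ⊆ s with hS
  have hun : S.biUnion (fun c => c.1) = s.erase x := by
    ext y
    simp only [mem_biUnion, hS, mem_filter, mem_univ, true_and, mem_erase]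
    constructor
    · rintro ⟨c, hc, hy⟩
      rw [← (rep_spec c).2] at hy
      exact ⟨(mem_filter.mp (mem_filter.mp hy).1).2.1, hc ((rep_spec c).2 ▸ hy)⟩
    · rintro ⟨hyx, hys⟩
      have hy : y ∈ far G x := by simp [far, hyx, hco x hx y hys]
      refine ⟨⟨cls G x y, mem_image_of_mem _ hy⟩, fun z hz => ?_, mem_cls_self hG hy⟩
      simp only [cls, mem_filter] at hz
      exact coc_union hG hs hx hy hz.1 hz.2 hys
  have h4 : ∀ c : Cls G x, c.1.card = 4 := fun c => by rw [← (rep_spec c).2, card_cls hG (rep_spec c).1]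
  refine ⟨⟨?_, ?_⟩, by rw [hun, insert_erase hx]⟩
  · have h := congrArg Finset.card hun
    rw [card_biUnion, sum_congr rfl (fun c _ => h4 c), sum_const, smul_eq_mul, card_erase_of_mem hx, h21] at h
    · omega
    · intro a _ b _ hab
      refine disjoint_left.mpr fun y ha hb => hab (Subtype.ext ?_)
      replace ha : y ∈ a.1 := ha
      replace hb : y ∈ b.1 := hb
      rw [← (rep_spec a).2] at ha ⊢
      rw [← (rep_spec b).2] at hb ⊢
      simp only [cls, mem_filter] at ha hb
      exact ((cls_eq_iff hG (rep_spec a).1 ha.1).mpr ha.2).trans ((cls_eq_iff hG (rep_spec b).1 hb.1).mpr hb.2).symm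
  · intro a ha b hb hab
    simp only [hS, mem_filter, mem_univ, true_and] at ha hb
    rcases (fifteen hG x).off a b hab with q | q
    · exact q
    exfalso
    have hyc : rep a ∈ a.1 := by
      have := mem_cls_self hG (rep_spec a).1
      rwa [(rep_spec a).2] at this
    have hfar : ∀ z ∈ b.1, z ∈ far G x := fun z hz => (mem_filter.mp ((rep_spec b).2.symm ▸ hz)).1
    have hk : ∀ z ∈ b.1, ((blk G x (rep a) ∩ blk G x z).card) = 2 := by
      intro z hz
      have hq := (qc_eq hG a b hyc hz).symm.trans q
      have hne : rep a ≠ z := fun e => by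
        simp [qq, e] at hq
      rw [inter_blk hG (rep_spec a).1 (hfar z hz) hne (hco _ (ha hyc) _ (hb hz))] at hq
      omega
    have hd : (b.1 : Set V).PairwiseDisjoint fun z => blk G x (rep a) ∩ blk G x z := by
      intro z hz z' hz' hne
      have hq : qq G x z z' = 4 := by
        rw [← qc_eq hG b b hz hz']; exact (fifteen hG x).diag b
      rw [inter_blk hG (hfar z hz) (hfar z' hz') hne (hco _ (hb hz) _ (hb hz'))] at hq
      have h0 : blk G x z ∩ blk G x z' = ∅ := card_eq_zero.mp (by omega)
      exact (disjoint_iff_inter_eq_empty.mpr h0).mono inter_subset_right inter_subset_right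
    have h8 := card_le_card (show b.1.biUnion (fun z => blk G x (rep a) ∩ blk G x z) ⊆ blk G x (rep a) from
      biUnion_subset.mpr fun z _ => inter_subset_left)
    rw [card_biUnion hd, sum_congr rfl hk, sum_const, h4, card_blk hG (rep_spec a).1] at h8
    norm_num at h8

theorem coc_of_star {x : V} {S : Finset (Cls G x)} (hS : IsStar (qc : Cls G x → Cls G x → ℤ) S) :
    insert x (S.biUnion fun c => c.1) ∈ coc G ∧ x ∈ insert x (S.biUnion fun c => c.1) ∧
      (univ.filter fun c : Cls G x => c.1 ⊆ insert x (S.biUnion fun c => c.1)) = S := by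
  have h4 : ∀ c : Cls G x, c.1.card = 4 := fun c => by rw [← (rep_spec c).2, card_cls hG (rep_spec c).1]
  have hfar : ∀ c : Cls G x, ∀ y ∈ c.1, y ∈ far G x ∧ cls G x y = c.1 := fun c y hy => by
    rw [← (rep_spec c).2] at hy ⊢
    simp only [cls, mem_filter] at hy
    exact ⟨hy.1, ((cls_eq_iff hG (rep_spec c).1 hy.1).mpr hy.2).symm⟩
  have hxn : ∀ c : Cls G x, x ∉ c.1 := fun c h => (mem_filter.mp (hfar c x h).1).2.1 rfl
  refine ⟨mem_coc.mpr ⟨?_, ?_⟩, mem_insert_self _ _, ?_⟩
  · rw [card_insert_of_notMem (by simp only [mem_biUnion, not_exists, not_and]; exact fun c _ => hxn c),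
      card_biUnion, sum_congr rfl (fun c _ => h4 c), sum_const, hS.1]
    · rfl
    · intro a _ b _ hab
      exact disjoint_left.mpr fun y ha hb => hab (Subtype.ext ((hfar a y ha).2.symm.trans (hfar b y hb).2))
  · intro u hu v hv huv
    simp only [mem_insert, mem_biUnion] at hu hv
    rcases hu with rfl | ⟨a, ha, hu⟩ <;> rcases hv with rfl | ⟨b, hb, hv⟩
    · exact G.irrefl huv
    · exact (mem_filter.mp (hfar b v hv).1).2.2 huv
    · exact (mem_filter.mp (hfar a u hu).1).2.2 huv.symm
    · have hq : qq G x u v = -2 := by simp [qq, huv.ne, huv]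
      rw [← qc_eq hG a b hu hv] at hq
      by_cases e : a = b
      · rw [e, (fifteen hG x).diag] at hq; omega
      · rw [hS.2 a ha b hb e] at hq; omega
  · ext c
    simp only [mem_filter, mem_univ, true_and]
    refine ⟨fun h => ?_, fun h => (subset_biUnion_of_mem (fun c : Cls G x => c.1) h).trans (subset_insert _ _)⟩
    obtain ⟨y, hy⟩ := card_pos.mp (show 0 < c.1.card by rw [h4]; norm_num)
    rcases mem_insert.mp (h hy) with e | e
    · exact absurd (e ▸ hy) (hxn c)
    · obtain ⟨d, hd, hyd⟩ := mem_biUnion.mp e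
      rwa [Subtype.ext ((hfar c y hy).2.symm.trans (hfar d y hyd).2)]

theorem card_two {x y : V} (hy : y ∈ far G x) :
    ((coc G).filter fun s => x ∈ s ∧ y ∈ s).card = 2 := by
  classical
  rw [← (fifteen hG x).star_count ⟨cls G x y, mem_image_of_mem _ hy⟩]
  refine card_nbij' (fun s => univ.filter fun c : Cls G x => c.1 ⊆ s)
    (fun S => insert x (S.biUnion fun c => c.1)) ?_ ?_ ?_ ?_
  · intro s hs
    simp only [coe_filter, Set.mem_ofPred_eq] at hs
    obtain ⟨hst, hun⟩ := star_of_coc hG hs.1 hs.2.1
    have hy' : y ∈ insert x ((univ.filter fun c : Cls G x => c.1 ⊆ s).biUnion fun c => c.1) := hun.symm ▸ hs.2.2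
    simp only [coe_filter, Set.mem_ofPred_eq, mem_univ, true_and]
    refine ⟨hst, ?_⟩
    rcases mem_insert.mp hy' with e | e
    · exact absurd e (mem_filter.mp hy).2.1
    obtain ⟨c, hc, hyc⟩ := mem_biUnion.mp e
    have hcy : c = ⟨cls G x y, mem_image_of_mem _ hy⟩ := by
      refine Subtype.ext ?_
      rw [← (rep_spec c).2] at hyc ⊢
      exact (cls_eq_iff hG (rep_spec c).1 hy).mpr (mem_filter.mp hyc).2
    exact hcy ▸ hc
  · intro S hS
    simp only [coe_filter, Set.mem_ofPred_eq, mem_univ, true_and] at hS
    obtain ⟨h1, h2, -⟩ := coc_of_star hG hS.1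
    simp only [coe_filter, Set.mem_ofPred_eq]
    exact ⟨h1, h2, mem_insert_of_mem (mem_biUnion.mpr ⟨_, hS.2, mem_cls_self hG hy⟩)⟩
  · intro s hs
    simp only [coe_filter, Set.mem_ofPred_eq] at hs
    exact (star_of_coc hG hs.1 hs.2.1).2
  · intro S hS
    simp only [coe_filter, Set.mem_ofPred_eq, mem_univ, true_and] at hS
    exact (coc_of_star hG hS.1).2.2

theorem card_six (x : V) : ((coc G).filter fun s => x ∈ s).card = 6 := by
  classical
  have hT : (far G x).card = 60 := by
    have h : far G x = univ \ insert x (G.neighborFinset x) := by ext z; simp [far]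
    rw [h, card_univ_diff, card_insert_of_notMem (by simp), card_neighborFinset_eq_degree, hG.regular x, hG.card]
  have hb : ∀ y ∈ far G x, (bipartiteBelow (fun (s : Finset V) (y : V) => y ∈ s)
      ((coc G).filter fun s => x ∈ s) y).card = 2 := fun y hy => by
    show (((coc G).filter fun s => x ∈ s).filter fun s => y ∈ s).card = 2
    rw [filter_filter]; exact card_two hG hy
  have h := sum_card_bipartiteAbove_eq_sum_card_bipartiteBelow (s := (coc G).filter fun s => x ∈ s)
    (t := far G x) (fun (s : Finset V) (y : V) => y ∈ s)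
  rw [sum_congr rfl (g := fun _ => 20) fun s hs => by
      obtain ⟨hs, hx⟩ := mem_filter.mp hs
      obtain ⟨h21, hco⟩ := mem_coc.mp hs
      rw [bipartiteAbove, show (far G x).filter (fun y => y ∈ s) = s.erase x by
        ext y
        simp only [far, mem_filter, mem_univ, true_and, mem_erase]
        exact ⟨fun h => ⟨h.1.1, h.2⟩, fun h => ⟨⟨h.1, hco x hx y h.2⟩, h.2⟩⟩]
      rw [card_erase_of_mem hx, h21],
    sum_congr rfl hb,
    sum_const, sum_const, hT, smul_eq_mul, smul_eq_mul] at h
  omega

theorem card_coc : (coc G).card = 22 := by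
  classical
  have hb : ∀ y ∈ (univ : Finset V), (bipartiteBelow (fun (s : Finset V) (y : V) => y ∈ s) (coc G) y).card = 6 :=
    fun y _ => card_six hG y
  have h := sum_card_bipartiteAbove_eq_sum_card_bipartiteBelow (s := coc G)
    (t := (univ : Finset V)) (fun (s : Finset V) (y : V) => y ∈ s)
  rw [sum_congr rfl (g := fun _ => 21) fun s hs => by
      rw [bipartiteAbove, filter_mem_eq_inter, univ_inter]; exact (mem_coc.mp hs).1,
    sum_congr rfl hb,
    sum_const, sum_const, card_univ, hG.card, smul_eq_mul, smul_eq_mul] at h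
  omega

omit hG in
/-- A vertex as a set of independent sets of size twenty-one. -/
noncomputable def block (G : SimpleGraph V) (x : V) : Finset ↥(coc G) := by
  classical exact univ.filter fun s => x ∈ s.1

omit hG in
theorem mem_block {x : V} {s : ↥(coc G)} : s ∈ block G x ↔ x ∈ s.1 := by simp [block]

omit hG in
theorem card_block_map (x : V) :
    (block G x).card = ((coc G).filter fun s => x ∈ s).card := by
  rw [← card_map (Function.Embedding.subtype _)]
  congr 1
  ext s; simp [mem_block, and_comm]

theorem block_inter {x y : V} (hne : y ≠ x) :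
    (block G x ∩ block G y).card = if G.Adj x y then 0 else 2 := by
  classical
  have h : (block G x ∩ block G y).card = ((coc G).filter fun s => x ∈ s ∧ y ∈ s).card := by
    rw [← card_map (Function.Embedding.subtype _)]
    congr 1
    ext s
    simp only [mem_map, mem_inter, mem_block, Function.Embedding.coe_subtype, mem_filter]
    exact ⟨fun ⟨a, ha, e⟩ => e ▸ ⟨a.2, ha⟩, fun hs => ⟨⟨s, hs.1⟩, hs.2, rfl⟩⟩
  rw [h]
  split_ifs with ha
  · rw [card_eq_zero, filter_eq_empty_iff]
    exact fun s hs hxy => (mem_coc.mp hs).2 x hxy.1 y hxy.2 ha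
  · exact card_two hG (by simp [far, hne, ha])

theorem block_injective : Function.Injective (block G) := fun x y h => by
  by_contra hne
  have := block_inter hG (Ne.symm hne)
  rw [h, inter_self, card_block_map, card_six hG] at this
  split_ifs at this <;> omega

/-- The graph is the block graph of a Steiner system. -/
theorem exists_model : ∃ (α : Finset (Finset V)) (B : Set (Finset ↥α)), Fintype.card ↥α = 22 ∧
    Cfsg.IsSteinerSystem 3 6 B ∧ Nonempty (Cfsg.blockGraph B ≃g G) := by
  classical
  have h6 : ∀ x, (block G x).card = 6 := fun x => by rw [card_block_map, card_six hG]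
  have hdis : ((univ : Finset V) : Set V).PairwiseDisjoint fun x => (block G x).powersetCard 3 := by
    intro x _ y _ hne
    refine disjoint_left.mpr fun t ht ht' => ?_
    rw [mem_powersetCard] at ht ht'
    have h1 := card_le_card (subset_inter ht.1 ht'.1)
    rw [block_inter hG (Ne.symm hne), ht.2] at h1
    split_ifs at h1 <;> omega
  have hall : (univ : Finset V).biUnion (fun x => (block G x).powersetCard 3) =
      (univ : Finset ↥(coc G)).powersetCard 3 := by
    refine eq_of_subset_of_card_le (biUnion_subset.mpr fun x _ => powersetCard_mono (subset_univ _)) ?_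
    rw [card_powersetCard, card_univ, Fintype.card_coe, card_coc hG, card_biUnion hdis,
      sum_congr rfl fun x _ => by rw [card_powersetCard, h6], sum_const, card_univ, hG.card]
    decide
  refine ⟨coc G, Set.range (block G), by rw [Fintype.card_coe, card_coc hG], ⟨?_, ?_⟩, ?_⟩
  · rintro - ⟨x, rfl⟩; exact h6 x
  · intro s hs
    have hs' : s ∈ (univ : Finset V).biUnion (fun x => (block G x).powersetCard 3) := by
      rw [hall, mem_powersetCard]; exact ⟨subset_univ _, hs⟩
    obtain ⟨x, -, hx⟩ := mem_biUnion.mp hs'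
    refine ⟨block G x, ⟨⟨x, rfl⟩, (mem_powersetCard.mp hx).1⟩, ?_⟩
    rintro - ⟨⟨y, rfl⟩, hy⟩
    by_contra hne
    exact disjoint_left.mp (hdis (mem_coe.mpr (mem_univ y)) (mem_coe.mpr (mem_univ x)) fun e => hne (e ▸ rfl))
      (mem_powersetCard.mpr ⟨hy, hs⟩) hx
  · refine ⟨⟨(Equiv.ofInjective (block G) (block_injective hG)).symm, ?_⟩⟩
    intro a b
    obtain ⟨x, rfl⟩ := (Equiv.ofInjective (block G) (block_injective hG)).surjective a
    obtain ⟨y, rfl⟩ := (Equiv.ofInjective (block G) (block_injective hG)).surjective b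
    simp only [Equiv.symm_apply_apply, Cfsg.blockGraph, fromRel_adj, ne_eq, EmbeddingLike.apply_eq_iff_eq,
      Equiv.ofInjective_apply]
    by_cases e : x = y
    · subst e; simp
    have hc := block_inter hG (Ne.symm e)
    rw [disjoint_comm (a := block G y), or_self, disjoint_iff_inter_eq_empty, ← card_eq_zero, hc]
    by_cases ha : G.Adj x y <;> simp [e, ha, Subtype.ext_iff, (block_injective hG).eq_iff]

omit hG

/-- Isomorphic families give isomorphic block graphs. -/
theorem block_congr {α β : Type*} [DecidableEq β] {B : Set (Finset α)} {B' : Set (Finset β)}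
    (h : Cfsg.SetSystemIso B B') : Nonempty (Cfsg.blockGraph B ≃g Cfsg.blockGraph B') := by
  classical
  obtain ⟨e, he⟩ := h
  let q : ↥B ≃ ↥B' := Equiv.ofBijective (fun b => ⟨b.1.image e, he ▸ ⟨b.1, b.2, rfl⟩⟩) ⟨fun b c h =>
    Subtype.ext (Finset.image_injective e.injective (congrArg Subtype.val h)), fun c => by
      obtain ⟨b, hb, hbe⟩ : c.1 ∈ (fun b => b.image e) '' B := he ▸ c.2
      exact ⟨⟨b, hb⟩, Subtype.ext hbe⟩⟩
  refine ⟨⟨q, ?_⟩⟩
  intro v w
  simp [Cfsg.blockGraph, q, Equiv.ofBijective, Finset.disjoint_image e.injective, Subtype.ext_iff,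
    (Finset.image_injective e.injective).eq_iff]

/-- Strongly regular graphs with parameters (77, 16, 0, 4) are isomorphic. -/
theorem unique_seventy_seven {V W : Type*} [Fintype V] [Fintype W] {G : SimpleGraph V} {H : SimpleGraph W}
    [DecidableRel G.Adj] [DecidableRel H.Adj] (hG : G.IsSRGWith 77 16 0 4)
    (hH : H.IsSRGWith 77 16 0 4) : Nonempty (G ≃g H) := by
  classical
  obtain ⟨α, B, hα, hB, ⟨φ⟩⟩ := exists_model hG
  obtain ⟨β, B', hβ, hB', ⟨φ'⟩⟩ := exists_model hH
  obtain ⟨χ⟩ := block_congr (CfsgCode.iso_22 hα hβ hB hB')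
  exact ⟨(φ.symm.trans χ).trans φ'⟩

end CfsgSRGUnique.SeventySeven
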